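/-
Schur multiplier of an arbitrary finite group, through the extension F/[R,F] of a free presentation.
-/
import Cfsg.Prelude.Def_KGroupFacts
import Mathlib.GroupTheory.FreeGroup.Basic
import Mathlib.GroupTheory.Schreier
import Mathlib.GroupTheory.Abelianization.Defs
import Mathlib.LinearAlgebra.FreeModule.PID
import Mathlib.Algebra.Module.Projective
import Mathlib.GroupTheory.QuotientGroup.Basic
import Mathlib.Algebra.EuclideanDomain.Int
import Mathlib.RingTheory.Finiteness.Finsupp
import Mathlib.RingTheory.PrincipalIdealDomain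

set_option autoImplicit false
set_option linter.style.haveILetI false
set_option linter.unusedSectionVars false

namespace Cfsg.Agent.Lib.Multiplier

universe u v w

open Subgroup
open scoped commutatorElement

/-! ### Generalities on central subgroups -/

/-- A commutator-closed set modulo a central subgroup: if `H ⊔ Z = ⊤` with `Z` central then `G' = H'`. -/
theorem commutator_le_of_sup_central {G : Type*} [Group G] (H Z : Subgroup G)
    (hZ : Z ≤ Subgroup.center G) (h : H ⊔ Z = ⊤) : commutator G ≤ ⁅H, H⁆ := by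
  haveI : Z.Normal := ⟨fun z hz g => by
    rw [mem_center_iff.1 (hZ hz) g, mul_inv_cancel_right]; exact hz⟩
  have key : ∀ g : G, ∃ a ∈ H, ∃ z ∈ Z, a * z = g := fun g => by
    have : g ∈ H ⊔ Z := h ▸ mem_top g
    exact mem_sup_of_normal_right.1 this
  rw [_root_.commutator_def, commutator_le]
  intro g _ k _
  obtain ⟨a, ha, z, hz, rfl⟩ := key g
  obtain ⟨b, hb, y, hy, rfl⟩ := key k
  have hzc := mem_center_iff.1 (hZ hz)
  have hyc := mem_center_iff.1 (hZ hy)
  have : ⁅a * z, b * y⁆ = ⁅a, b⁆ := by
    simp only [commutatorElement_def, mul_inv_rev]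
    calc a * z * (b * y) * (z⁻¹ * a⁻¹) * (y⁻¹ * b⁻¹)
        = a * ((z * (b * y)) * z⁻¹) * a⁻¹ * (y⁻¹ * b⁻¹) := by group
      _ = a * (b * y) * a⁻¹ * (y⁻¹ * b⁻¹) := by rw [← hzc (b * y), mul_inv_cancel_right]
      _ = a * b * (y * a⁻¹) * y⁻¹ * b⁻¹ := by group
      _ = a * b * a⁻¹ * b⁻¹ := by rw [← hyc a⁻¹, ← mul_assoc, mul_inv_cancel_right]
  rw [this]
  exact commutator_mem_commutator ha hb

/-- A group with finitely many cosets of its centre has finitely many commutators. -/
theorem finite_commutatorSet_of_finite_quotient_center (G : Type*) [Group G]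
    [Finite (G ⧸ Subgroup.center G)] : Finite (commutatorSet G) := by
  have hinv : ∀ (g g' : G), g⁻¹ * g' ∈ Subgroup.center G → ∀ k : G,
      ⁅g, k⁆ = ⁅g', k⁆ ∧ ⁅k, g⁆ = ⁅k, g'⁆ := by
    intro g g' hg k
    obtain ⟨z, hz, rfl⟩ : ∃ z ∈ Subgroup.center G, g' = g * z := ⟨g⁻¹ * g', hg, by group⟩
    have hzc := mem_center_iff.1 hz
    constructor
    · simp only [commutatorElement_def, mul_inv_rev]
      calc g * k * g⁻¹ * k⁻¹ = g * (k * z) * z⁻¹ * g⁻¹ * k⁻¹ := by group
        _ = g * (z * k) * z⁻¹ * g⁻¹ * k⁻¹ := by rw [hzc k]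
        _ = g * z * k * (z⁻¹ * g⁻¹) * k⁻¹ := by group
    · simp only [commutatorElement_def, mul_inv_rev]
      calc k * g * k⁻¹ * g⁻¹ = k * g * (k⁻¹ * z) * z⁻¹ * g⁻¹ := by group
        _ = k * g * (z * k⁻¹) * z⁻¹ * g⁻¹ := by rw [hzc k⁻¹]
        _ = k * (g * z) * k⁻¹ * (z⁻¹ * g⁻¹) := by group
  let f : (G ⧸ Subgroup.center G) × (G ⧸ Subgroup.center G) → G :=
    fun p => ⁅p.1.out, p.2.out⁆
  refine Set.Finite.to_subtype ((Set.finite_range f).subset ?_)
  rintro _ ⟨a, b, rfl⟩
  refine ⟨(QuotientGroup.mk a, QuotientGroup.mk b), ?_⟩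
  have ha : ((QuotientGroup.mk a : G ⧸ Subgroup.center G).out)⁻¹ * a ∈ Subgroup.center G :=
    QuotientGroup.eq.1 (QuotientGroup.out_eq' _)
  have hb : ((QuotientGroup.mk b : G ⧸ Subgroup.center G).out)⁻¹ * b ∈ Subgroup.center G :=
    QuotientGroup.eq.1 (QuotientGroup.out_eq' _)
  exact ((hinv _ _ ha _).1).trans ((hinv _ _ hb a).2)

/-- A group that is finite modulo its centre has finite commutator subgroup. -/
theorem finite_commutator_of_finite_quotient_center (G : Type*) [Group G]
    [Finite (G ⧸ Subgroup.center G)] : Finite (commutator G) :=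
  haveI := finite_commutatorSet_of_finite_quotient_center G
  inferInstance

/-! ### The extension `F/[R,F]` -/

variable (G : Type u) [Group G]

/-- The relation subgroup `R` of the free presentation on all elements of `G`. -/
def relSub : Subgroup (FreeGroup G) := (FreeGroup.lift (id : G → G)).ker

/-- `[R, F]`. -/
def commRel : Subgroup (FreeGroup G) := ⁅relSub G, (⊤ : Subgroup (FreeGroup G))⁆

instance relSub_normal : (relSub G).Normal := MonoidHom.normal_ker _

instance commRel_normal : (commRel G).Normal := by unfold commRel; infer_instance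

theorem commRel_le_relSub : commRel G ≤ relSub G := commutator_le_left _ _

theorem commRel_le_commutator : commRel G ≤ commutator (FreeGroup G) := by
  rw [_root_.commutator_def]; exact commutator_mono le_top le_rfl

/-- The extension `F/[R,F]`: the initial one among central extensions of `G`. -/
abbrev FreeCE : Type u := FreeGroup G ⧸ commRel G

/-- The projection `F/[R,F] →* G`. -/
def ceHom : FreeCE G →* G :=
  QuotientGroup.lift (commRel G) (FreeGroup.lift (id : G → G)) (commRel_le_relSub G)

theorem ceHom_mk (x : FreeGroup G) :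
    ceHom G (QuotientGroup.mk x) = FreeGroup.lift (id : G → G) x := rfl

theorem ceHom_surjective : Function.Surjective (ceHom G) :=
  fun g => ⟨QuotientGroup.mk (FreeGroup.of g), by rw [ceHom_mk]; simp⟩

theorem ceHom_ker_le_center : (ceHom G).ker ≤ Subgroup.center (FreeCE G) := by
  intro x hx
  obtain ⟨r, rfl⟩ := QuotientGroup.mk'_surjective (commRel G) x
  rw [mem_center_iff]
  intro y
  obtain ⟨f, rfl⟩ := QuotientGroup.mk'_surjective (commRel G) y
  have hr : r ∈ relSub G := hx
  have : ⁅r, f⁆ ∈ commRel G := commutator_mem_commutator hr (mem_top f)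
  have h1 : ⁅QuotientGroup.mk' (commRel G) r, QuotientGroup.mk' (commRel G) f⁆ = 1 := by
    rw [← map_commutatorElement]; exact (QuotientGroup.eq_one_iff _).2 this
  exact (commutatorElement_eq_one_iff_mul_comm.1 h1).symm

/-- The Schur multiplier `(R ∩ F')/[R,F]`, as a subgroup of `F/[R,F]`. -/
def schurM : Subgroup (FreeCE G) := (ceHom G).ker ⊓ commutator (FreeCE G)

theorem schurM_le_center : schurM G ≤ Subgroup.center (FreeCE G) :=
  le_trans inf_le_left (ceHom_ker_le_center G)

theorem schurM_le_commutator : schurM G ≤ commutator (FreeCE G) := inf_le_right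

instance schurMCommGroup : CommGroup (schurM G) :=
  { (schurM G).toGroup with
    mul_comm := fun a b => Subtype.ext (mem_center_iff.1 (schurM_le_center G b.2) a.1) }

/-- Every central extension receives a map from `F/[R,F]`. -/
theorem exists_lift {Γ : Type v} [Group Γ] (σ : Γ →* G) (hs : Function.Surjective σ)
    (hc : σ.ker ≤ Subgroup.center Γ) : ∃ f : FreeCE G →* Γ, σ.comp f = ceHom G := by
  let f₀ : FreeGroup G →* Γ := FreeGroup.lift (Function.surjInv hs)
  have hcomp : σ.comp f₀ = FreeGroup.lift (id : G → G) := by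
    ext g; simp [f₀, Function.surjInv_eq hs]
  have hker : commRel G ≤ f₀.ker := by
    rw [commRel, commutator_le]
    intro r hr x _
    have : f₀ r ∈ σ.ker := by
      rw [MonoidHom.mem_ker, ← MonoidHom.comp_apply, hcomp]; exact hr
    rw [MonoidHom.mem_ker, map_commutatorElement, commutatorElement_eq_one_iff_mul_comm]
    exact (mem_center_iff.1 (hc this) (f₀ x)).symm
  refine ⟨QuotientGroup.lift (commRel G) f₀ hker, ?_⟩
  apply QuotientGroup.monoidHom_ext
  exact hcomp

variable {G}

/-- For a stem extension the lift is onto and carries the multiplier onto the kernel. -/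
theorem lift_surjective {Γ : Type v} [Group Γ] {σ : Γ →* G} (hσ : IsStemExtension σ)
    {f : FreeCE G →* Γ} (hf : σ.comp f = ceHom G) :
    Function.Surjective f ∧ (schurM G).map f = σ.ker := by
  obtain ⟨-, hc, hd⟩ := hσ
  have hsup : f.range ⊔ σ.ker = ⊤ := by
    refine top_le_iff.1 fun g _ => ?_
    obtain ⟨e, he⟩ := ceHom_surjective G (σ g)
    have h1 : (f e)⁻¹ * g ∈ σ.ker := by
      rw [MonoidHom.mem_ker, map_mul, map_inv, ← MonoidHom.comp_apply, hf, he, inv_mul_cancel]
    have := (f.range ⊔ σ.ker).mul_mem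
      (mem_sup_left (show f e ∈ f.range from ⟨e, rfl⟩)) (mem_sup_right h1)
    rwa [mul_inv_cancel_left] at this
  have hder : commutator Γ ≤ (commutator (FreeCE G)).map f := by
    have := commutator_le_of_sup_central f.range σ.ker hc hsup
    rw [_root_.commutator_def (FreeCE G), map_commutator, ← MonoidHom.range_eq_map]
    exact this
  have hsurj : Function.Surjective f := by
    rw [← MonoidHom.range_eq_top, eq_top_iff, ← hsup]
    exact sup_le le_rfl ((hd.trans hder).trans (map_le_range _ _))
  refine ⟨hsurj, le_antisymm ?_ ?_⟩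
  · rintro _ ⟨e, he, rfl⟩
    rw [MonoidHom.mem_ker, ← MonoidHom.comp_apply, hf]
    exact he.1
  · intro z hz
    obtain ⟨e, he, rfl⟩ := hder (hd hz)
    refine ⟨e, ⟨?_, he⟩, rfl⟩
    show ceHom G e = 1
    rw [← hf, MonoidHom.comp_apply]
    exact hz

/-- The kernel of every stem extension is an image of the multiplier. -/
theorem exists_surjective_to_ker {Γ : Type v} [Group Γ] (σ : Γ →* G) (hσ : IsStemExtension σ) :
    ∃ π : schurM G →* σ.ker, Function.Surjective π := by
  obtain ⟨f, hf⟩ := exists_lift G σ hσ.1 hσ.2.1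
  obtain ⟨-, hmap⟩ := lift_surjective hσ hf
  refine ⟨(f.domRestrict (schurM G)).codRestrict σ.ker (fun x => ?_), ?_⟩
  · rw [← hmap]; exact ⟨x, x.2, rfl⟩
  · rintro ⟨z, hz⟩
    obtain ⟨x, hx, hxz⟩ := hmap.symm ▸ hz
    exact ⟨⟨x, hx⟩, Subtype.ext hxz⟩

variable (G)

/-- The exponent-sum map. -/
noncomputable def expSum : FreeGroup G →* Multiplicative (G →₀ ℤ) :=
  FreeGroup.lift fun g => Multiplicative.ofAdd (Finsupp.single g 1)

theorem expSum_ker : (expSum G).ker = commutator (FreeGroup G) := by
  refine le_antisymm ?_ (Abelianization.commutator_subset_ker _)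
  let g₀ : (G →₀ ℤ) →+ Additive (Abelianization (FreeGroup G)) :=
    Finsupp.liftAddHom fun g =>
      zmultiplesHom _ (Additive.ofMul (Abelianization.of (FreeGroup.of g)))
  let back : Multiplicative (G →₀ ℤ) →* Abelianization (FreeGroup G) :=
    AddMonoidHom.toMultiplicativeLeft g₀
  have h : back.comp (expSum G) = Abelianization.of := by
    ext g; simp [expSum, back, g₀]
  intro x hx
  have : Abelianization.of x = 1 := by
    rw [← h, MonoidHom.comp_apply, MonoidHom.mem_ker.1 hx, map_one]
  exact (QuotientGroup.eq_one_iff x).1 this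

/-- The exponent-sum map on `F/[R,F]`. -/
noncomputable def ceExp : FreeCE G →* Multiplicative (G →₀ ℤ) :=
  QuotientGroup.lift (commRel G) (expSum G)
    ((commRel_le_commutator G).trans (expSum_ker G).ge)

theorem ceExp_ker : (ceExp G).ker = commutator (FreeCE G) := by
  refine le_antisymm ?_ (Abelianization.commutator_subset_ker _)
  intro x hx
  obtain ⟨r, rfl⟩ := QuotientGroup.mk'_surjective (commRel G) x
  have hr : r ∈ commutator (FreeGroup G) := (expSum_ker G).le hx
  have := mem_map_of_mem (QuotientGroup.mk' (commRel G)) hr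
  rw [_root_.commutator_def, map_commutator] at this
  rw [_root_.commutator_def]
  exact commutator_mono le_top le_top this

variable [Finite G]

theorem finite_quotient_center_freeCE : Finite (FreeCE G ⧸ Subgroup.center (FreeCE G)) := by
  haveI : (ceHom G).ker.FiniteIndex := inferInstance
  haveI := Subgroup.finiteIndex_of_le (ceHom_ker_le_center G)
  exact Subgroup.finite_quotient_of_finiteIndex

instance schurM_finite : Finite (schurM G) := by
  haveI := finite_quotient_center_freeCE G
  haveI := finite_commutator_of_finite_quotient_center (FreeCE G)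
  exact Finite.of_injective (Subgroup.inclusion (schurM_le_commutator G))
    (Subgroup.inclusion_injective _)

/-- The multiplier has a complement in the kernel of `F/[R,F] → G`. -/
theorem exists_complement : ∃ C : Subgroup (FreeCE G), C ≤ (ceHom G).ker ∧
    C ⊓ schurM G = ⊥ ∧ C ⊔ schurM G = (ceHom G).ker := by
  let K := (ceHom G).ker
  letI : CommGroup K :=
    { K.toGroup with
      mul_comm := fun a b => Subtype.ext (mem_center_iff.1 (ceHom_ker_le_center G b.2) a.1) }
  let L : Additive K →ₗ[ℤ] (G →₀ ℤ) :=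
    (AddMonoidHom.toIntLinearMap (MonoidHom.toAdditiveLeft ((ceExp G).domRestrict K)))
  haveI : Module.IsTorsionFree ℤ (LinearMap.range L) := inferInstance
  haveI : Module.Finite ℤ (LinearMap.range L) := inferInstance
  haveI : Module.Free ℤ (LinearMap.range L) := Module.free_of_finite_type_torsion_free'
  obtain ⟨s, hs⟩ := Module.projective_lifting_property L.rangeRestrict LinearMap.id
    L.surjective_rangeRestrict
  let j : Multiplicative (LinearMap.range L) →* FreeCE G :=
    K.subtype.comp (AddMonoidHom.toMultiplicativeLeft s.toAddMonoidHom)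
  have hK : ∀ y, j y ∈ K := fun y => (s (Multiplicative.toAdd y)).toMul.2
  have hj : ∀ y, ceExp G (j y) = Multiplicative.ofAdd ((Multiplicative.toAdd y).1) := fun y => by
    have := congrArg Subtype.val (LinearMap.congr_fun hs (Multiplicative.toAdd y))
    exact congrArg Multiplicative.ofAdd this
  refine ⟨j.range, ?_, ?_, ?_⟩
  · rintro _ ⟨y, rfl⟩; exact hK y
  · rw [eq_bot_iff]
    rintro _ ⟨⟨y, rfl⟩, hm⟩
    have h1 : ceExp G (j y) = 1 := (ceExp_ker G).ge hm.2
    rw [hj] at h1
    have : y = 1 := Multiplicative.toAdd.injective (Subtype.ext (ofAdd_eq_one.1 h1))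
    simp [this]
  · refine le_antisymm (sup_le ?_ inf_le_left) ?_
    · rintro _ ⟨y, rfl⟩; exact hK y
    intro k hk
    let y : Multiplicative (LinearMap.range L) :=
      Multiplicative.ofAdd (L.rangeRestrict (Additive.ofMul (⟨k, hk⟩ : K)))
    have hky : (j y)⁻¹ * k ∈ schurM G := by
      refine ⟨K.mul_mem (K.inv_mem (hK y)) hk, ?_⟩
      apply (ceExp_ker G).le
      rw [MonoidHom.mem_ker, map_mul, map_inv, hj]
      exact inv_mul_cancel _
    have := (j.range ⊔ schurM G).mul_mem
      (mem_sup_left (show j y ∈ j.range from ⟨y, rfl⟩)) (mem_sup_right hky)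
    rwa [mul_inv_cancel_left] at this

/-- Existence of a Schur cover, with kernel `schurM G`. -/
theorem exists_cover : ∃ (Γ : Type u) (_ : Group Γ) (_ : Finite Γ) (σ : Γ →* G),
    IsStemExtension σ ∧ Nonempty (σ.ker ≃* schurM G) := by
  obtain ⟨C, hCK, hCM, hCsup⟩ := exists_complement G
  haveI : C.Normal := ⟨fun z hz g => by
    rw [mem_center_iff.1 (ceHom_ker_le_center G (hCK hz)) g, mul_inv_cancel_right]; exact hz⟩
  let q := QuotientGroup.mk' C
  have hqs : Function.Surjective q := QuotientGroup.mk'_surjective C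
  let σ : FreeCE G ⧸ C →* G := QuotientGroup.lift C (ceHom G) hCK
  have hker : σ.ker = (schurM G).map q := by
    refine le_antisymm ?_ ?_
    · intro x hx
      obtain ⟨e, rfl⟩ := hqs x
      have he : e ∈ C ⊔ schurM G := hCsup.symm ▸ (hx : e ∈ (ceHom G).ker)
      obtain ⟨c, hc, m, hm, rfl⟩ := mem_sup_of_normal_left.1 he
      refine ⟨m, hm, ?_⟩
      rw [map_mul, (QuotientGroup.eq_one_iff c).2 hc |> (fun h => show q c = 1 from h), one_mul]
    · rintro _ ⟨m, hm, rfl⟩; exact hm.1
  let r : schurM G →* σ.ker :=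
    (q.domRestrict (schurM G)).codRestrict σ.ker (fun x => by rw [hker]; exact ⟨x, x.2, rfl⟩)
  have hr : Function.Bijective r := by
    refine ⟨?_, ?_⟩
    · rw [← MonoidHom.ker_eq_bot_iff, eq_bot_iff]
      intro x hx
      have hx' : q x.1 = 1 := congrArg Subtype.val hx
      have : x.1 ∈ C ⊓ schurM G := ⟨(QuotientGroup.eq_one_iff _).1 hx', x.2⟩
      rw [hCM] at this
      exact Subgroup.mem_bot.2 (Subtype.ext this)
    · rintro ⟨z, hz⟩
      obtain ⟨m, hm, hmz⟩ := hker.le hz
      exact ⟨⟨m, hm⟩, Subtype.ext hmz⟩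
  haveI : Finite σ.ker := Finite.of_surjective r hr.2
  haveI : Finite ((FreeCE G ⧸ C) ⧸ σ.ker) :=
    Finite.of_injective _ (QuotientGroup.kerLift_injective σ)
  have hfin : Finite (FreeCE G ⧸ C) :=
    Finite.of_equiv _ (Subgroup.groupEquivQuotientProdSubgroup (s := σ.ker)).symm
  refine ⟨FreeCE G ⧸ C, inferInstance, hfin, σ, ⟨?_, ?_, ?_⟩, ⟨(MulEquiv.ofBijective r hr).symm⟩⟩
  · exact QuotientGroup.lift_surjective_of_surjective _ _ (ceHom_surjective G) hCK
  · rw [hker]
    rintro _ ⟨m, hm, rfl⟩
    rw [mem_center_iff]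
    intro y
    obtain ⟨e, rfl⟩ := hqs y
    rw [← map_mul, ← map_mul, mem_center_iff.1 (schurM_le_center G hm) e]
  · rw [hker, _root_.commutator_def]
    refine (map_mono (schurM_le_commutator G)).trans ?_
    rw [_root_.commutator_def, map_commutator]
    exact commutator_mono le_top le_top

/-- The multiplier in the sense of `Cfsg.HasSchurMultiplier`. -/
theorem hasSchurMultiplier_schurM : HasSchurMultiplier G (schurM G) :=
  ⟨exists_cover G, fun _ _ _ σ hσ => exists_surjective_to_ker σ hσ⟩

variable {G}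

omit [Finite G] in
/-- `HasSchurMultiplier` forces `G` to be finite. -/
theorem finite_group_of_hasSchurMultiplier {A : Type w} [CommGroup A]
    (h : HasSchurMultiplier G A) : Finite G := by
  obtain ⟨⟨Γ, _, _, σ, hσ, -⟩, -⟩ := h
  exact Finite.of_surjective σ hσ.1

omit [Finite G] in
/-- `HasSchurMultiplier` forces `A` to be finite. -/
theorem finite_of_hasSchurMultiplier {A : Type w} [CommGroup A]
    (h : HasSchurMultiplier G A) : Finite A := by
  obtain ⟨⟨Γ, _, _, σ, -, ⟨e⟩⟩, -⟩ := h
  exact Finite.of_equiv _ e.toEquiv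

/-- The multiplier is unique up to isomorphism. -/
theorem mulEquiv_of_hasSchurMultiplier {A : Type w} [CommGroup A]
    (h : HasSchurMultiplier G A) : Nonempty (A ≃* schurM G) := by
  haveI := finite_of_hasSchurMultiplier h
  obtain ⟨⟨Γ, _, _, σ, hσ, ⟨e⟩⟩, hq⟩ := h
  obtain ⟨Γ', _, _, σ', hσ', ⟨e'⟩⟩ := exists_cover G
  obtain ⟨p, hp⟩ := hq Γ' σ' hσ'
  obtain ⟨p', hp'⟩ := exists_surjective_to_ker σ hσ
  let a : A →* schurM G := e'.toMonoidHom.comp p
  have ha : Function.Surjective a := e'.surjective.comp hp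
  have hle : Nat.card A ≤ Nat.card (schurM G) :=
    Nat.card_le_card_of_surjective (e ∘ p') (e.surjective.comp hp')
  exact ⟨MulEquiv.ofBijective a ((Nat.bijective_iff_surjective_and_card a).2
    ⟨ha, le_antisymm hle (Nat.card_le_card_of_surjective a ha)⟩)⟩

theorem hasSchurMultiplier_iff {A : Type w} [CommGroup A] :
    HasSchurMultiplier G A ↔ Nonempty (A ≃* schurM G) := by
  refine ⟨mulEquiv_of_hasSchurMultiplier, fun ⟨e⟩ => ⟨?_, fun Γ _ _ σ hσ => ?_⟩⟩
  · obtain ⟨Γ, _, _, σ, hσ, ⟨e'⟩⟩ := exists_cover G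
    exact ⟨Γ, inferInstance, inferInstance, σ, hσ, ⟨e'.trans e.symm⟩⟩
  · obtain ⟨p, hp⟩ := exists_surjective_to_ker σ hσ
    exact ⟨p.comp e.toMonoidHom, hp.comp e.surjective⟩

/-- Criterion: a stem extension with kernel of order `n` isomorphic to `A`, and no larger one. -/
theorem hasSchurMultiplier_of_cover {A : Type w} [CommGroup A] {Γ : Type v} [Group Γ]
    (σ : Γ →* G) (hσ : IsStemExtension σ) (e : σ.ker ≃* A)
    (hbound : ∀ (Δ : Type u) [Group Δ] [Finite Δ] (τ : Δ →* G),
      IsStemExtension τ → Nat.card τ.ker ≤ Nat.card A) : HasSchurMultiplier G A := by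
  obtain ⟨Δ, _, _, τ, hτ, ⟨e'⟩⟩ := exists_cover G
  obtain ⟨p, hp⟩ := exists_surjective_to_ker σ hσ
  have hle : Nat.card (schurM G) ≤ Nat.card A :=
    (Nat.card_congr e'.toEquiv).symm.trans_le (hbound Δ τ hτ)
  let a : schurM G →* A := e.toMonoidHom.comp p
  have ha : Function.Surjective a := e.surjective.comp hp
  exact hasSchurMultiplier_iff.2 ⟨(MulEquiv.ofBijective a
    ((Nat.bijective_iff_surjective_and_card a).2
      ⟨ha, le_antisymm hle (Nat.card_le_card_of_surjective a ha)⟩)).symm⟩

variable (G) in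
/-- The identity as a stem extension. -/
theorem isStemExtension_id : IsStemExtension (MonoidHom.id G) :=
  ⟨fun g => ⟨g, rfl⟩, by simp, by simp⟩

/-- Trivial multiplier: every finite stem extension is injective. -/
theorem hasCyclicSchurMultiplier_one_iff :
    HasCyclicSchurMultiplier G 1 ↔
      ∀ (Δ : Type u) [Group Δ] [Finite Δ] (τ : Δ →* G), IsStemExtension τ → τ.ker = ⊥ := by
  constructor
  · rintro ⟨-, h⟩ Δ _ _ τ hτ
    obtain ⟨p, hp⟩ := h Δ τ hτ
    haveI : Subsingleton τ.ker := hp.subsingleton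
    exact Subgroup.eq_bot_of_subsingleton _
  · intro h
    haveI : Subsingleton (MonoidHom.id G).ker := by
      rw [show (MonoidHom.id G).ker = ⊥ from (MonoidHom.ker_eq_bot_iff _).2 fun _ _ => id]
      infer_instance
    haveI : Unique (MonoidHom.id G).ker := uniqueOfSubsingleton 1
    refine hasSchurMultiplier_of_cover (MonoidHom.id G) (isStemExtension_id G)
      MulEquiv.ofUnique ?_
    intro Δ _ _ τ hτ
    rw [h Δ τ hτ]
    simp

/-- With a trivial multiplier every stem extension, in any universe, is injective. -/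
theorem injective_of_trivial (h : HasCyclicSchurMultiplier G 1) {Γ : Type v} [Group Γ]
    (σ : Γ →* G) (hσ : IsStemExtension σ) : Function.Injective σ := by
  obtain ⟨e⟩ := mulEquiv_of_hasSchurMultiplier h
  haveI : Subsingleton (schurM G) := e.symm.injective.subsingleton
  obtain ⟨p, hp⟩ := exists_surjective_to_ker σ hσ
  haveI : Subsingleton σ.ker := hp.subsingleton
  exact (MonoidHom.ker_eq_bot_iff _).1 (Subgroup.eq_bot_of_subsingleton _)

/-- A stem extension of a finite group is finite. -/
theorem finite_of_isStemExtension {Γ : Type v} [Group Γ] (σ : Γ →* G) (hσ : IsStemExtension σ) :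
    Finite Γ := by
  obtain ⟨p, hp⟩ := exists_surjective_to_ker σ hσ
  haveI : Finite σ.ker := Finite.of_surjective p hp
  haveI : Finite (Γ ⧸ σ.ker) := Finite.of_injective _ (QuotientGroup.kerLift_injective σ)
  exact Finite.of_equiv _ (Subgroup.groupEquivQuotientProdSubgroup (s := σ.ker)).symm

end Cfsg.Agent.Lib.Multiplier
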