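/-
Stem extensions and Sylow subgroups (transfer).
-/
import Cfsg.Agent.Lib.Multiplier.Basic
import Mathlib.GroupTheory.Transfer
import Mathlib.GroupTheory.Sylow
import Mathlib.GroupTheory.SpecificGroups.Cyclic

set_option autoImplicit false
set_option linter.style.haveILetI false
set_option linter.unusedSectionVars false

namespace Cfsg.Agent.Lib.Multiplier

universe u v

open Subgroup

variable {G : Type u} [Group G]

/-- Transfer: a central commutator element `z` of `H` satisfies `z ^ [G:H] ∈ H'`. -/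
theorem pow_index_mem_commutator (H : Subgroup G) [H.FiniteIndex] (z : G)
    (hz : z ∈ Subgroup.center G) (hzd : z ∈ commutator G) (hzH : z ∈ H) :
    z ^ H.index ∈ ⁅H, H⁆ := by
  let φ : H →* Abelianization H := Abelianization.of
  have key : ∀ (k : ℕ) (g₀ : G), g₀⁻¹ * z ^ k * g₀ ∈ H → g₀⁻¹ * z ^ k * g₀ = z ^ k := by
    intro k g₀ _
    rw [mul_assoc, ← mem_center_iff.1 (pow_mem hz k) g₀, inv_mul_cancel_left]
  have h1 : MonoidHom.transfer φ z = 1 :=
    MonoidHom.mem_ker.1 (Abelianization.commutator_subset_ker _ hzd)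
  rw [MonoidHom.transfer_eq_pow φ z key] at h1
  have h2 : (⟨z ^ H.index, H.pow_mem hzH _⟩ : H) ∈ commutator H :=
    (QuotientGroup.eq_one_iff _).1 h1
  rw [← Subgroup.map_subtype_commutator H]
  exact ⟨_, h2, rfl⟩

variable [Finite G]

/-- `Z(G) ∩ G' ∩ P ≤ P'` for a Sylow subgroup `P`. -/
theorem mem_commutator_sylow {p : ℕ} [Fact p.Prime] (P : Sylow p G) (z : G)
    (hz : z ∈ Subgroup.center G) (hzd : z ∈ commutator G) (hzP : z ∈ P) :
    z ∈ ⁅(P : Subgroup G), (P : Subgroup G)⁆ := by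
  have h := pow_index_mem_commutator (P : Subgroup G) z hz hzd hzP
  obtain ⟨k, hk⟩ := P.isPGroup' ⟨z, hzP⟩
  have hk' : z ^ p ^ k = 1 := congrArg Subtype.val hk
  have hcop : (p ^ k).Coprime (P : Subgroup G).index :=
    Nat.Coprime.pow_left k ((Fact.out : p.Prime).coprime_iff_not_dvd.2 P.not_dvd_index)
  have h1 : (1 : G) ∈ ⁅(P : Subgroup G), (P : Subgroup G)⁆ := one_mem _
  rw [← hk'] at h1
  have := Subgroup.mul_mem _ (Subgroup.zpow_mem _ h1 ((p ^ k).gcdA (P : Subgroup G).index))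
    (Subgroup.zpow_mem _ h ((p ^ k).gcdB (P : Subgroup G).index))
  rw [← zpow_natCast, ← zpow_natCast z (P : Subgroup G).index, ← zpow_mul, ← zpow_mul, ← zpow_add,
    ← Nat.gcd_eq_gcd_ab, hcop.gcd_eq_one, Nat.cast_one, zpow_one] at this
  exact this

/-- A `p`-element of a normal abelian subgroup `Z ≤ Z(G)` lies in every Sylow `p`-subgroup. -/
theorem central_pElement_mem_sylow {p : ℕ} [Fact p.Prime] (P : Sylow p G) (z : G)
    (hz : z ∈ Subgroup.center G) {k : ℕ} (hk : z ^ p ^ k = 1) : z ∈ P := by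
  have hN : (Subgroup.zpowers z).Normal := ⟨fun x hx g => by
    have : x ∈ Subgroup.center G := (Subgroup.zpowers_le.2 hz) hx
    rw [mem_center_iff.1 this g, mul_inv_cancel_right]; exact hx⟩
  have hp : IsPGroup p (Subgroup.zpowers z) := fun x => ⟨k, Subtype.ext (by
    obtain ⟨i, hi⟩ := x.2
    simp only [SubmonoidClass.coe_pow, OneMemClass.coe_one, ← hi]
    rw [← zpow_natCast, ← zpow_mul, mul_comm, zpow_mul, zpow_natCast, hk, one_zpow])⟩
  obtain ⟨Q, hQ⟩ := hp.exists_le_sylow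
  obtain ⟨g, rfl⟩ := MulAction.exists_smul_eq G Q P
  have h1 := hQ (Subgroup.mem_zpowers z)
  refine Subgroup.mem_map.2 ⟨z, h1, ?_⟩
  show g * z * g⁻¹ = z
  rw [mem_center_iff.1 hz g, mul_inv_cancel_right]

section Stem

variable {H : Type v} [Group H] (σ : G →* H)

/-- For a stem extension, the `p`-part of the kernel lies in the derived group of a Sylow
subgroup. -/
theorem ker_inf_sylow_le {p : ℕ} [Fact p.Prime] (hσ : IsStemExtension σ) (P : Sylow p G) :
    σ.ker ⊓ (P : Subgroup G) ≤ ⁅(P : Subgroup G), (P : Subgroup G)⁆ :=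
  fun z hz => mem_commutator_sylow P z (hσ.2.1 hz.1) (hσ.2.2 hz.1) hz.2

/-- Restriction of a stem extension to a Sylow subgroup is a stem extension. -/
theorem isStemExtension_sylow {p : ℕ} [Fact p.Prime] (hσ : IsStemExtension σ) (P : Sylow p G) :
    IsStemExtension (σ.subgroupMap (P : Subgroup G)) := by
  refine ⟨MonoidHom.subgroupMap_surjective _ _, ?_, ?_⟩
  · intro x hx
    rw [mem_center_iff]
    intro y
    have hx' : x.1 ∈ σ.ker := congrArg Subtype.val hx
    exact Subtype.ext (mem_center_iff.1 (hσ.2.1 hx') y.1)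
  · intro x hx
    have hx' : x.1 ∈ σ.ker := congrArg Subtype.val hx
    have h := ker_inf_sylow_le σ hσ P ⟨hx', x.2⟩
    rw [← Subgroup.map_subtype_commutator] at h
    obtain ⟨y, hy, hyx⟩ := h
    rwa [← (P : Subgroup G).subtype_injective hyx]

/-- If every Sylow `p`-subgroup of the preimage is abelian modulo nothing, the kernel is a
`p'`-group. -/
theorem not_dvd_card_ker_of_comm {p : ℕ} [Fact p.Prime] (hσ : IsStemExtension σ) (P : Sylow p G)
    (hP : ⁅(P : Subgroup G), (P : Subgroup G)⁆ = ⊥) : ¬ p ∣ Nat.card σ.ker := by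
  intro hdvd
  obtain ⟨x, hx⟩ := exists_prime_orderOf_dvd_card' p hdvd
  have hxp : (x : G) ^ p ^ 1 = 1 := by
    rw [pow_one, ← hx, ← SubmonoidClass.coe_pow, pow_orderOf_eq_one]; rfl
  have hmem := ker_inf_sylow_le σ hσ P
    ⟨x.2, central_pElement_mem_sylow P x.1 (hσ.2.1 x.2) hxp⟩
  rw [hP, Subgroup.mem_bot] at hmem
  have : x = 1 := Subtype.ext hmem
  rw [this, orderOf_one] at hx
  exact (Fact.out : p.Prime).ne_one hx.symm

/-- Cyclic Sylow `p`-subgroups below: the kernel has order prime to `p`. -/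
theorem not_dvd_card_ker_of_cyclic {p : ℕ} [Fact p.Prime] (hσ : IsStemExtension σ)
    (hcyc : ∀ S : Sylow p H, IsCyclic S) : ¬ p ∣ Nat.card σ.ker := by
  haveI : Finite H := Finite.of_surjective σ hσ.1
  obtain ⟨P⟩ : Nonempty (Sylow p G) := inferInstance
  refine not_dvd_card_ker_of_comm σ hσ P ?_
  let S := P.mapSurjective hσ.1
  haveI : IsCyclic ((P : Subgroup G).map σ) := hcyc S
  let f := σ.subgroupMap (P : Subgroup G)
  have hker : f.ker ≤ Subgroup.center (P : Subgroup G) := (isStemExtension_sylow σ hσ P).2.1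
  rw [Subgroup.commutator_eq_bot_iff_le_centralizer]
  intro a ha b hb
  exact congrArg Subtype.val ((f.isMulCommutative_of_isCyclic_of_ker_le_center hker).is_comm.comm ⟨b, hb⟩ ⟨a, ha⟩)

end Stem

/-- If the Sylow `p`-subgroups of `G` are cyclic, the multiplier is a `p'`-group. -/
theorem not_dvd_card_schurM_of_cyclic {p : ℕ} [Fact p.Prime]
    (hcyc : ∀ S : Sylow p G, IsCyclic S) : ¬ p ∣ Nat.card (schurM G) := by
  obtain ⟨Γ, _, _, σ, hσ, ⟨e⟩⟩ := exists_cover G
  rw [← Nat.card_congr e.toEquiv]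
  exact not_dvd_card_ker_of_cyclic σ hσ hcyc

/-- All Sylow subgroups cyclic: the multiplier is trivial. -/
theorem hasCyclicSchurMultiplier_one_of_sylow_cyclic
    (h : ∀ p : ℕ, p.Prime → ∀ S : Sylow p G, IsCyclic S) : HasCyclicSchurMultiplier G 1 := by
  rw [hasCyclicSchurMultiplier_one_iff]
  intro Δ _ _ τ hτ
  by_contra hne
  have h1 : Nat.card τ.ker ≠ 1 := fun h1 => hne (Subgroup.card_eq_one.1 h1)
  obtain ⟨p, hp, hdvd⟩ := Nat.exists_prime_and_dvd h1
  haveI : Fact p.Prime := ⟨hp⟩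
  exact not_dvd_card_ker_of_cyclic τ hτ (h p hp) hdvd

/-- A stem extension kills nothing at `p` when a Sylow `p`-subgroup has trivial multiplier. -/
theorem not_dvd_card_ker_of_sylow_trivial {Γ : Type v} [Group Γ] [Finite Γ] {p : ℕ} [Fact p.Prime]
    (σ : Γ →* G) (hσ : IsStemExtension σ) (h : ∀ S : Sylow p G, HasCyclicSchurMultiplier S 1) :
    ¬ p ∣ Nat.card σ.ker := by
  obtain ⟨P⟩ : Nonempty (Sylow p Γ) := inferInstance
  intro hdvd
  obtain ⟨x, hx⟩ := exists_prime_orderOf_dvd_card' p hdvd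
  have hxp : (x : Γ) ^ p ^ 1 = 1 := by
    rw [pow_one, ← hx, ← SubmonoidClass.coe_pow, pow_orderOf_eq_one]; rfl
  have hxP := central_pElement_mem_sylow P x.1 (hσ.2.1 x.2) hxp
  have hinj : Function.Injective (σ.subgroupMap (P : Subgroup Γ)) :=
    injective_of_trivial (G := (P : Subgroup Γ).map σ) (h (P.mapSurjective hσ.1)) _
      (isStemExtension_sylow σ hσ P)
  have h1 : (⟨x.1, hxP⟩ : (P : Subgroup Γ)) = 1 := hinj (Subtype.ext (by
    rw [map_one]; exact x.2))
  have : x = 1 := Subtype.ext (congrArg Subtype.val h1 :)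
  rw [this, orderOf_one] at hx
  exact (Fact.out : p.Prime).ne_one hx.symm

end Cfsg.Agent.Lib.Multiplier
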