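/-
The universal central extension of a finite perfect group.
-/
import Cfsg.Agent.Lib.Multiplier.Basic
import Mathlib.GroupTheory.IsPerfect

set_option autoImplicit false
set_option linter.style.haveILetI false
set_option linter.unusedSectionVars false

namespace Cfsg.Agent.Lib.Multiplier

universe u v

open Subgroup
open scoped commutatorElement

/-- Two lifts of a map from a perfect group through a central extension agree. -/
theorem lift_unique {G : Type*} [Group G] (hG : commutator G = ⊤) {X Q : Type*} [Group X] [Group Q]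
    (ξ : X →* Q) (hc : ξ.ker ≤ Subgroup.center X) (η η' : G →* X) (h : ξ.comp η = ξ.comp η') :
    η = η' := by
  have hd : ∀ g, η g * (η' g)⁻¹ ∈ ξ.ker := fun g => by
    rw [MonoidHom.mem_ker, map_mul, map_inv, ← MonoidHom.comp_apply, h, MonoidHom.comp_apply,
      mul_inv_cancel]
  have hcl : commutator G ≤ MonoidHom.eqLocus η η' := by
    rw [_root_.commutator_def, Subgroup.commutator_le]
    intro a _ b _
    show η ⁅a, b⁆ = η' ⁅a, b⁆
    rw [map_commutatorElement, map_commutatorElement]
    have key : ∀ z ∈ ξ.ker, ∀ w ∈ ξ.ker, ∀ x y : X, ⁅z * x, w * y⁆ = ⁅x, y⁆ := by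
      intro z hz w hw x y
      have hzc := mem_center_iff.1 (hc hz)
      have hwc := mem_center_iff.1 (hc hw)
      simp only [commutatorElement_def, mul_inv_rev]
      calc z * x * (w * y) * (x⁻¹ * z⁻¹) * (y⁻¹ * w⁻¹)
          = z * (x * (w * y) * x⁻¹) * z⁻¹ * (y⁻¹ * w⁻¹) := by group
        _ = x * (w * y) * x⁻¹ * (y⁻¹ * w⁻¹) := by
            rw [← hzc (x * (w * y) * x⁻¹), mul_inv_cancel_right]
        _ = (x * w) * y * x⁻¹ * y⁻¹ * w⁻¹ := by group
        _ = w * (x * y * x⁻¹ * y⁻¹) * w⁻¹ := by rw [hwc x]; group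
        _ = x * y * x⁻¹ * y⁻¹ := by rw [← hwc (x * y * x⁻¹ * y⁻¹), mul_inv_cancel_right]
    have := key _ (hd a) _ (hd b) (η' a) (η' b)
    rwa [inv_mul_cancel_right, inv_mul_cancel_right] at this
  ext g
  exact hcl (hG.symm ▸ mem_top g)

variable (Q : Type u) [Group Q]

theorem sup_ker_eq_top_of_perfect (hQ : commutator Q = ⊤) :
    commutator (FreeCE Q) ⊔ (ceHom Q).ker = ⊤ := by
  rw [← Subgroup.comap_map_eq, _root_.commutator_def, map_commutator,
    Subgroup.map_top_of_surjective _ (ceHom_surjective Q), ← _root_.commutator_def, hQ,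
    Subgroup.comap_top]

theorem commutator_freeCE_perfect (hQ : commutator Q = ⊤) :
    commutator (commutator (FreeCE Q)) = ⊤ := by
  apply Subgroup.map_injective (commutator (FreeCE Q)).subtype_injective
  rw [Subgroup.map_subtype_commutator, ← MonoidHom.range_eq_map, Subgroup.range_subtype]
  exact le_antisymm (commutator_le_left _ _)
    (commutator_le_of_sup_central _ _ (ceHom_ker_le_center Q) (sup_ker_eq_top_of_perfect Q hQ))

/-- The universal central extension `[E,E] → Q` of a finite perfect group. -/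
theorem exists_universal [Finite Q] (hQ : commutator Q = ⊤) :
    ∃ (G : Type u) (_ : Group G) (_ : Finite G) (π : G →* Q),
      commutator G = ⊤ ∧ Function.Surjective π ∧ π.ker ≤ Subgroup.center G ∧
        ∀ (X : Type v) [Group X] (ξ : X →* Q), Function.Surjective ξ →
          ξ.ker ≤ Subgroup.center X → ∃! η : G →* X, ξ.comp η = π := by
  haveI := finite_quotient_center_freeCE Q
  haveI := finite_commutator_of_finite_quotient_center (FreeCE Q)
  refine ⟨commutator (FreeCE Q), inferInstance, inferInstance,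
    (ceHom Q).comp (commutator (FreeCE Q)).subtype, commutator_freeCE_perfect Q hQ, ?_, ?_, ?_⟩
  · intro q
    obtain ⟨e, rfl⟩ := ceHom_surjective Q q
    have : e ∈ commutator (FreeCE Q) ⊔ (ceHom Q).ker := by
      rw [sup_ker_eq_top_of_perfect Q hQ]; exact mem_top e
    obtain ⟨a, ha, b, hb, rfl⟩ := mem_sup_of_normal_left.1 this
    exact ⟨⟨a, ha⟩, by simp [MonoidHom.mem_ker.1 hb]⟩
  · intro x hx
    rw [mem_center_iff]
    intro y
    exact Subtype.ext (mem_center_iff.1 (ceHom_ker_le_center Q (show x.1 ∈ _ from hx)) y.1)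
  · intro X _ ξ hs hc
    obtain ⟨f, hf⟩ := exists_lift Q ξ hs hc
    refine ⟨f.comp (commutator (FreeCE Q)).subtype, ?_, ?_⟩
    · show ξ.comp (f.comp _) = _
      rw [← MonoidHom.comp_assoc, hf]
    · intro η hη
      refine lift_unique (commutator_freeCE_perfect Q hQ) ξ hc _ _ ?_
      rw [hη, ← MonoidHom.comp_assoc, hf]

end Cfsg.Agent.Lib.Multiplier
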