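/-
Central extensions: perfect groups, trivial multipliers, covers over a given stem extension.
-/
import Cfsg.Agent.Lib.Multiplier.Basic
import Cfsg.Agent.Lib.Multiplier.Perfect
import Mathlib.GroupTheory.IsPerfect
import Mathlib.Algebra.Group.MinimalAxioms
import Mathlib.Tactic.Ring

set_option autoImplicit false
set_option linter.style.haveILetI false
set_option linter.unusedSectionVars false

namespace Cfsg.Agent.Lib.Multiplier

universe u v w

open Subgroup
open scoped commutatorElement

/-- The pullback of two maps to the same group. -/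
def fibredProduct {A B C : Type*} [Group A] [Group B] [Group C] (f : A →* C) (g : B →* C) :
    Subgroup (A × B) :=
  MonoidHom.eqLocus (f.comp (MonoidHom.fst A B)) (g.comp (MonoidHom.snd A B))

/-- A central extension of a central extension of a group is central when the top is perfect. -/
theorem ker_comp_le_center {D G Q : Type*} [Group D] [Group G] [Group Q] (hD : commutator D = ⊤)
    (τ : D →* G) (hτ : τ.ker ≤ Subgroup.center D) (π : G →* Q) (hπ : π.ker ≤ Subgroup.center G) :
    (π.comp τ).ker ≤ Subgroup.center D := by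
  intro x hx
  have hc : τ x ∈ Subgroup.center G := hπ hx
  have hz : ∀ y : D, x * y * x⁻¹ * y⁻¹ ∈ Subgroup.center D := fun y => hτ (by
    rw [MonoidHom.mem_ker, map_mul, map_mul, map_mul, map_inv, map_inv,
      ← mem_center_iff.1 hc (τ y), mul_inv_cancel_right, mul_inv_cancel])
  let f : D →* Subgroup.center D :=
    { toFun := fun y => ⟨x * y * x⁻¹ * y⁻¹, hz y⟩
      map_one' := Subtype.ext (by simp)
      map_mul' := fun a b => Subtype.ext (by
        show x * (a * b) * x⁻¹ * (a * b)⁻¹ = x * a * x⁻¹ * a⁻¹ * (x * b * x⁻¹ * b⁻¹)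
        calc x * (a * b) * x⁻¹ * (a * b)⁻¹
            = x * a * x⁻¹ * ((x * b * x⁻¹ * b⁻¹) * a⁻¹) := by group
          _ = x * a * x⁻¹ * (a⁻¹ * (x * b * x⁻¹ * b⁻¹)) := by
              rw [mem_center_iff.1 (hz b) a⁻¹]
          _ = x * a * x⁻¹ * a⁻¹ * (x * b * x⁻¹ * b⁻¹) := by group) }
  rw [mem_center_iff]
  intro y
  have hy : y ∈ f.ker := by
    let _ : CommGroup (Subgroup.center D) :=
      { (Subgroup.center D).toGroup with
        mul_comm := fun a b => Subtype.ext (mem_center_iff.1 b.2 a.1) }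
    exact Abelianization.commutator_subset_ker f (hD.symm ▸ mem_top y)
  have h1 : x * y * x⁻¹ * y⁻¹ = 1 := congrArg Subtype.val (MonoidHom.mem_ker.1 hy)
  calc y * x = (x * y * x⁻¹ * y⁻¹) * (y * x) := by rw [h1, one_mul]
    _ = x * y := by group

/-- A perfect group with trivial multiplier maps to every central extension of each of its central
quotients. -/
theorem exists_lift_of_trivial {G : Type u} {Q : Type v} [Group G] [Group Q] [Finite G]
    (hG : commutator G = ⊤) (h : HasCyclicSchurMultiplier G 1) (π : G →* Q)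
    {X : Type w} [Group X] (ξ : X →* Q) (hs : Function.Surjective ξ)
    (hc : ξ.ker ≤ Subgroup.center X) : ∃ η : G →* X, ξ.comp η = π := by
  let P := fibredProduct π ξ
  let p₁ : P →* G := (MonoidHom.fst G X).comp P.subtype
  let p₂ : P →* X := (MonoidHom.snd G X).comp P.subtype
  have hcomm : ∀ y : P, π (p₁ y) = ξ (p₂ y) := fun y => y.2
  have hsurj : Function.Surjective p₁ := fun g => by
    obtain ⟨x, hx⟩ := hs (π g)
    exact ⟨⟨(g, x), hx.symm⟩, rfl⟩
  have hker : p₁.ker ≤ Subgroup.center P := by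
    intro y hy
    rw [mem_center_iff]
    intro z
    have hy1 : p₁ y = 1 := hy
    have hy2 : p₂ y ∈ Subgroup.center X := hc (by rw [MonoidHom.mem_ker, ← hcomm, hy1, map_one])
    refine Subtype.ext (Prod.ext ?_ ?_)
    · show p₁ (z * y) = p₁ (y * z)
      rw [map_mul, map_mul, hy1, one_mul, mul_one]
    · show p₂ (z * y) = p₂ (y * z)
      rw [map_mul, map_mul]; exact mem_center_iff.1 hy2 _
  have hmap : (commutator P).map p₁ = ⊤ := by
    rw [_root_.commutator_def, map_commutator, Subgroup.map_top_of_surjective _ hsurj,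
      ← _root_.commutator_def, hG]
  have hsup : commutator P ⊔ p₁.ker = ⊤ := by
    rw [← Subgroup.comap_map_eq, hmap, Subgroup.comap_top]
  let q : commutator P →* G := p₁.comp (commutator P).subtype
  have hperf : commutator (commutator P) = ⊤ := by
    apply Subgroup.map_injective (commutator P).subtype_injective
    rw [Subgroup.map_subtype_commutator, ← MonoidHom.range_eq_map, Subgroup.range_subtype]
    exact le_antisymm (commutator_le_left _ _) (commutator_le_of_sup_central _ _ hker hsup)
  have hstem : IsStemExtension q := by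
    refine ⟨fun g => ?_, fun y hy => ?_, ?_⟩
    · obtain ⟨y, hy, hyg⟩ := (hmap.symm ▸ mem_top g : g ∈ (commutator P).map p₁)
      exact ⟨⟨y, hy⟩, hyg⟩
    · rw [mem_center_iff]
      intro z
      exact Subtype.ext (mem_center_iff.1 (hker (show y.1 ∈ p₁.ker from hy)) z.1)
    · rw [hperf]; exact le_top
  let e := MulEquiv.ofBijective q ⟨injective_of_trivial h q hstem, hstem.1⟩
  refine ⟨(p₂.comp (commutator P).subtype).comp e.symm.toMonoidHom, ?_⟩
  ext g
  show ξ (p₂ (e.symm g).1) = π g
  rw [← hcomm]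
  exact congrArg π (e.apply_symm_apply g)

/-- If a perfect central extension is universal, then its multiplier is trivial. -/
theorem trivial_of_universal {G : Type u} {Q : Type v} [Group G] [Group Q] [Finite G]
    (hG : commutator G = ⊤) (π : G →* Q) (hπ : Function.Surjective π)
    (hker : π.ker ≤ Subgroup.center G)
    (hu : ∀ (X : Type u) [Group X] (ξ : X →* Q), Function.Surjective ξ →
      ξ.ker ≤ Subgroup.center X → ∃ η : G →* X, ξ.comp η = π) :
    HasCyclicSchurMultiplier G 1 := by
  rw [hasCyclicSchurMultiplier_one_iff]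
  intro D _ _ τ hτ
  have hD : commutator D = ⊤ := by
    have h1 : (commutator D).map τ = ⊤ := by
      rw [_root_.commutator_def, map_commutator, Subgroup.map_top_of_surjective _ hτ.1,
        ← _root_.commutator_def, hG]
    have h2 : commutator D ⊔ τ.ker = ⊤ := by rw [← Subgroup.comap_map_eq, h1, Subgroup.comap_top]
    rwa [sup_eq_left.2 hτ.2.2] at h2
  obtain ⟨η, hη⟩ := hu D (π.comp τ) (hπ.comp hτ.1) (ker_comp_le_center hD τ hτ.2.1 π hker)
  have hid : τ.comp η = MonoidHom.id G := by
    refine lift_unique hG π hker _ _ ?_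
    rw [← MonoidHom.comp_assoc, hη, MonoidHom.comp_id]
  have hrange : η.range ⊔ τ.ker = ⊤ := by
    refine top_le_iff.1 fun d _ => ?_
    have h1 : (η (τ d))⁻¹ * d ∈ τ.ker := by
      rw [MonoidHom.mem_ker, map_mul, map_inv,
        show τ (η (τ d)) = τ d from DFunLike.congr_fun hid (τ d), inv_mul_cancel]
    have := (η.range ⊔ τ.ker).mul_mem
      (mem_sup_left (show η (τ d) ∈ η.range from ⟨_, rfl⟩)) (mem_sup_right h1)
    rwa [mul_inv_cancel_left] at this
  have htop : η.range = ⊤ := by
    refine top_le_iff.1 ?_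
    rw [← hD]
    exact (commutator_le_of_sup_central _ _ hτ.2.1 hrange).trans (commutator_le_self _)
  rw [eq_bot_iff]
  intro x hx
  obtain ⟨g, rfl⟩ := (htop.symm ▸ mem_top x : x ∈ η.range)
  have : g = 1 := (DFunLike.congr_fun hid g).symm.trans hx
  simp [this]

/-- A stem extension whose middle group has trivial multiplier carries the multiplier bijectively
onto its kernel. -/
theorem disjoint_ker_of_trivial {Q : Type u} [Group Q] {Γ : Type v} [Group Γ] [Finite Γ]
    (hΓ : HasCyclicSchurMultiplier Γ 1) {σ : Γ →* Q} (hσ : IsStemExtension σ)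
    {f : FreeCE Q →* Γ} (hf : σ.comp f = ceHom Q) : f.ker ⊓ schurM Q = ⊥ := by
  have hsurj := (lift_surjective hσ hf).1
  have hc : f.ker ≤ Subgroup.center (FreeCE Q) := fun x hx => ceHom_ker_le_center Q (by
    rw [MonoidHom.mem_ker, ← hf, MonoidHom.comp_apply, MonoidHom.mem_ker.1 hx, map_one])
  obtain ⟨g, hg⟩ := exists_lift Γ f hsurj hc
  obtain ⟨e⟩ := mulEquiv_of_hasSchurMultiplier hΓ
  haveI : Subsingleton (schurM Γ) := e.symm.injective.subsingleton
  have hsup : g.range ⊔ f.ker = ⊤ := by
    refine top_le_iff.1 fun d _ => ?_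
    obtain ⟨a, ha⟩ := ceHom_surjective Γ (f d)
    have h1 : (g a)⁻¹ * d ∈ f.ker := by
      rw [MonoidHom.mem_ker, map_mul, map_inv,
        show f (g a) = f d from (DFunLike.congr_fun hg a).trans ha, inv_mul_cancel]
    have := (g.range ⊔ f.ker).mul_mem
      (mem_sup_left (show g a ∈ g.range from ⟨_, rfl⟩)) (mem_sup_right h1)
    rwa [mul_inv_cancel_left] at this
  rw [eq_bot_iff]
  intro x hx
  have h := commutator_le_of_sup_central _ _ hc hsup hx.2.2
  rw [MonoidHom.range_eq_map, ← map_commutator] at h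
  obtain ⟨a, ha, rfl⟩ := h
  have : a ∈ schurM Γ := ⟨by
    show ceHom Γ a = 1
    rw [← hg, MonoidHom.comp_apply]; exact hx.1,
    by rwa [_root_.commutator_def]⟩
  have h1 : (⟨a, this⟩ : schurM Γ) = 1 := Subsingleton.elim _ _
  simp [show a = 1 from congrArg Subtype.val h1]

/-- The kernel of a stem extension is the multiplier, when the lift is injective on it. -/
theorem mulEquiv_ker_of_disjoint {Q : Type u} [Group Q] {Γ : Type v} [Group Γ]
    {σ : Γ →* Q} (hσ : IsStemExtension σ)
    {f : FreeCE Q →* Γ} (hf : σ.comp f = ceHom Q) (hd : f.ker ⊓ schurM Q = ⊥) :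
    Nonempty (schurM Q ≃* σ.ker) := by
  have hmap := (lift_surjective hσ hf).2
  let e : schurM Q →* σ.ker := (f.domRestrict (schurM Q)).codRestrict σ.ker
    (fun x => by rw [← hmap]; exact ⟨x, x.2, rfl⟩)
  refine ⟨MulEquiv.ofBijective e ⟨?_, ?_⟩⟩
  · rw [← MonoidHom.ker_eq_bot_iff, eq_bot_iff]
    intro x hx
    have : x.1 ∈ f.ker ⊓ schurM Q :=
      ⟨show f x.1 = 1 from congrArg Subtype.val (MonoidHom.mem_ker.1 hx), x.2⟩
    rw [hd] at this
    exact Subgroup.mem_bot.2 (Subtype.ext this)
  · rintro ⟨z, hz⟩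
    obtain ⟨x, hx, hxz⟩ := hmap.symm ▸ hz
    exact ⟨⟨x, hx⟩, Subtype.ext hxz⟩

/-- A stem extension with trivial multiplier in the middle is a cover. -/
theorem exists_surjective_ker_of_trivial {Q : Type u} [Group Q] {Γ : Type v} [Group Γ] [Finite Γ]
    (σ : Γ →* Q) (hσ : IsStemExtension σ) (hΓ : HasCyclicSchurMultiplier Γ 1)
    {Δ : Type w} [Group Δ] (τ : Δ →* Q) (hτ : IsStemExtension τ) :
    ∃ π : σ.ker →* τ.ker, Function.Surjective π := by
  obtain ⟨f, hf⟩ := exists_lift Q σ hσ.1 hσ.2.1
  obtain ⟨e⟩ := mulEquiv_ker_of_disjoint hσ hf (disjoint_ker_of_trivial hΓ hσ hf)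
  obtain ⟨p, hp⟩ := exists_surjective_to_ker τ hτ
  exact ⟨p.comp e.symm.toMonoidHom, hp.comp e.symm.surjective⟩

/-- A subgroup of the kernel of `F/[R,F] → Q` has a complement to its part in the derived group. -/
theorem exists_complement_in (Q : Type u) [Group Q] [Finite Q] (K : Subgroup (FreeCE Q))
    (hKle : K ≤ (ceHom Q).ker) : ∃ C : Subgroup (FreeCE Q), C ≤ K ∧
    C ⊓ commutator (FreeCE Q) = ⊥ ∧ K ≤ C ⊔ (K ⊓ commutator (FreeCE Q)) := by
  letI : CommGroup K :=
    { K.toGroup with
      mul_comm := fun a b =>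
        Subtype.ext (mem_center_iff.1 (ceHom_ker_le_center Q (hKle b.2)) a.1) }
  let L : Additive K →ₗ[ℤ] (Q →₀ ℤ) :=
    (AddMonoidHom.toIntLinearMap (MonoidHom.toAdditiveLeft ((ceExp Q).domRestrict K)))
  haveI : Module.IsTorsionFree ℤ (LinearMap.range L) := inferInstance
  haveI : Module.Finite ℤ (LinearMap.range L) := inferInstance
  haveI : Module.Free ℤ (LinearMap.range L) := Module.free_of_finite_type_torsion_free'
  obtain ⟨s, hs⟩ := Module.projective_lifting_property L.rangeRestrict LinearMap.id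
    L.surjective_rangeRestrict
  let j : Multiplicative (LinearMap.range L) →* FreeCE Q :=
    K.subtype.comp (AddMonoidHom.toMultiplicativeLeft s.toAddMonoidHom)
  have hK : ∀ y, j y ∈ K := fun y => (s (Multiplicative.toAdd y)).toMul.2
  have hj : ∀ y, ceExp Q (j y) = Multiplicative.ofAdd ((Multiplicative.toAdd y).1) := fun y => by
    have := congrArg Subtype.val (LinearMap.congr_fun hs (Multiplicative.toAdd y))
    exact congrArg Multiplicative.ofAdd this
  refine ⟨j.range, ?_, ?_, ?_⟩
  · rintro _ ⟨y, rfl⟩; exact hK y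
  · rw [eq_bot_iff]
    rintro _ ⟨⟨y, rfl⟩, hm⟩
    have h1 : ceExp Q (j y) = 1 := (ceExp_ker Q).ge hm
    rw [hj] at h1
    have : y = 1 := Multiplicative.toAdd.injective (Subtype.ext (ofAdd_eq_one.1 h1))
    simp [this]
  · intro k hk
    let y : Multiplicative (LinearMap.range L) :=
      Multiplicative.ofAdd (L.rangeRestrict (Additive.ofMul (⟨k, hk⟩ : K)))
    have hky : (j y)⁻¹ * k ∈ K ⊓ commutator (FreeCE Q) := by
      refine ⟨K.mul_mem (K.inv_mem (hK y)) hk, ?_⟩
      apply (ceExp_ker Q).le
      rw [MonoidHom.mem_ker, map_mul, map_inv, hj]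
      exact inv_mul_cancel _
    have := (j.range ⊔ (K ⊓ commutator (FreeCE Q))).mul_mem
      (mem_sup_left (show j y ∈ j.range from ⟨y, rfl⟩)) (mem_sup_right hky)
    rwa [mul_inv_cancel_left] at this

/-- Every stem extension is the image of a Schur cover. -/
theorem exists_cover_over {Q : Type u} [Group Q] [Finite Q] {Δ : Type v} [Group Δ]
    (τ : Δ →* Q) (hτ : IsStemExtension τ) :
    ∃ (Γ : Type u) (_ : Group Γ) (_ : Finite Γ) (σ : Γ →* Q), IsStemExtension σ ∧
      Nonempty (schurM Q ≃* σ.ker) ∧ ∃ β : Γ →* Δ, Function.Surjective β ∧ τ.comp β = σ := by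
  obtain ⟨g, hg⟩ := exists_lift Q τ hτ.1 hτ.2.1
  obtain ⟨hgs, hgM⟩ := lift_surjective hτ hg
  have hgK : g.ker ≤ (ceHom Q).ker := fun x hx => by
    rw [MonoidHom.mem_ker, ← hg, MonoidHom.comp_apply, MonoidHom.mem_ker.1 hx, map_one]
  obtain ⟨C, hCg, hCd, hCsup⟩ := exists_complement_in Q g.ker hgK
  have hCK : C ≤ (ceHom Q).ker := hCg.trans hgK
  haveI : C.Normal := ⟨fun z hz x => by
    rw [mem_center_iff.1 (ceHom_ker_le_center Q (hCK hz)) x, mul_inv_cancel_right]; exact hz⟩
  let q := QuotientGroup.mk' C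
  have hqs : Function.Surjective q := QuotientGroup.mk'_surjective C
  let σ : FreeCE Q ⧸ C →* Q := QuotientGroup.lift C (ceHom Q) hCK
  have hKsup : (ceHom Q).ker ≤ C ⊔ schurM Q := by
    intro k hk
    have : g k ∈ τ.ker := by rw [MonoidHom.mem_ker, ← MonoidHom.comp_apply, hg]; exact hk
    rw [← hgM] at this
    obtain ⟨m, hm, hmk⟩ := this
    have h1 : k * m⁻¹ ∈ g.ker := by
      rw [MonoidHom.mem_ker, map_mul, map_inv, hmk, mul_inv_cancel]
    have h2 : k * m⁻¹ ∈ C ⊔ schurM Q :=
      (sup_le_sup_left (inf_le_inf_right _ hgK) C) (hCsup h1)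
    have := (C ⊔ schurM Q).mul_mem h2 (mem_sup_right hm)
    rwa [inv_mul_cancel_right] at this
  have hσ : IsStemExtension σ := by
    refine ⟨QuotientGroup.lift_surjective_of_surjective _ _ (ceHom_surjective Q) hCK, ?_, ?_⟩
    · intro x hx
      obtain ⟨e, rfl⟩ := hqs x
      have he : e ∈ (ceHom Q).ker := hx
      rw [mem_center_iff]
      intro y
      obtain ⟨e', rfl⟩ := hqs y
      rw [← map_mul, ← map_mul, mem_center_iff.1 (ceHom_ker_le_center Q he) e']
    · intro x hx
      obtain ⟨e, rfl⟩ := hqs x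
      obtain ⟨c, hc, m, hm, rfl⟩ := mem_sup_of_normal_left.1 (hKsup hx)
      rw [map_mul, show q c = 1 from (QuotientGroup.eq_one_iff c).2 hc, one_mul]
      have := mem_map_of_mem q (schurM_le_commutator Q hm)
      rw [_root_.commutator_def, map_commutator] at this
      exact commutator_mono le_top le_top this
  have hd : q.ker ⊓ schurM Q = ⊥ := by
    rw [eq_bot_iff, ← hCd, QuotientGroup.ker_mk']
    exact inf_le_inf_left _ (schurM_le_commutator Q)
  let β : FreeCE Q ⧸ C →* Δ := QuotientGroup.lift C g hCg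
  refine ⟨FreeCE Q ⧸ C, inferInstance, finite_of_isStemExtension σ hσ, σ, hσ,
    mulEquiv_ker_of_disjoint hσ (f := q) rfl hd, β, ?_, ?_⟩
  · exact QuotientGroup.lift_surjective_of_surjective _ _ hgs hCg
  · exact QuotientGroup.monoidHom_ext _ hg

/-- A twisted product `G × A` by a pair of homomorphisms into a ring: a central extension. -/
@[ext]
structure Twist {G : Type u} [CommGroup G] {R : Type v} [CommRing R] (a b : G →* Multiplicative R)
    where
  /-- The image in `G`. -/
  fst : G
  /-- The central coordinate. -/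
  snd : R

namespace Twist

variable {G : Type u} [CommGroup G] {R : Type v} [CommRing R] (a b : G →* Multiplicative R)

instance : Mul (Twist a b) :=
  ⟨fun x y => ⟨x.fst * y.fst, x.snd + y.snd + (a x.fst).toAdd * (b y.fst).toAdd⟩⟩

instance : One (Twist a b) := ⟨⟨1, 0⟩⟩

instance : Inv (Twist a b) :=
  ⟨fun x => ⟨x.fst⁻¹, -x.snd + (a x.fst).toAdd * (b x.fst).toAdd⟩⟩

theorem mul_fst (x y : Twist a b) : (x * y).fst = x.fst * y.fst := rfl

theorem mul_snd (x y : Twist a b) :
    (x * y).snd = x.snd + y.snd + (a x.fst).toAdd * (b y.fst).toAdd := rfl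

instance instGroup : Group (Twist a b) :=
  Group.ofLeftAxioms
    (fun x y z => by
      ext
      · exact mul_assoc _ _ _
      · simp only [mul_snd, mul_fst, map_mul, toAdd_mul]; ring)
    (fun x => by
      ext
      · exact one_mul _
      · show (0 : R) + x.snd + (a 1).toAdd * (b x.fst).toAdd = x.snd
        simp)
    (fun x => by
      ext
      · exact inv_mul_cancel _
      · show -x.snd + (a x.fst).toAdd * (b x.fst).toAdd + x.snd
            + (a x.fst⁻¹).toAdd * (b x.fst).toAdd = 0
        simp only [map_inv, toAdd_inv]; ring)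

/-- The projection. -/
def proj : Twist a b →* G where
  toFun x := x.fst
  map_one' := rfl
  map_mul' _ _ := rfl

end Twist

/-- With trivial multiplier, every pair of maps of an abelian group into a ring is dependent. -/
theorem dependent_of_trivial {G : Type u} [CommGroup G] [Finite G] {R : Type v} [CommRing R]
    (h : HasCyclicSchurMultiplier G 1) (a b : G →* Multiplicative R) (g k : G) :
    (a g).toAdd * (b k).toAdd = (a k).toAdd * (b g).toAdd := by
  have hs : Function.Surjective (Twist.proj a b) := fun x => ⟨⟨x, 0⟩, rfl⟩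
  have hc : (Twist.proj a b).ker ≤ Subgroup.center (Twist a b) := by
    intro x hx
    rw [mem_center_iff]
    intro y
    have hx1 : x.fst = 1 := hx
    ext
    · exact mul_comm _ _
    · simp [Twist.mul_snd, hx1, add_comm]
  obtain ⟨f, hf⟩ := exists_lift G (Twist.proj a b) hs hc
  obtain ⟨e⟩ := mulEquiv_of_hasSchurMultiplier h
  haveI : Subsingleton (schurM G) := e.symm.injective.subsingleton
  have hM : commutator (FreeCE G) = ⊥ := by
    rw [eq_bot_iff]
    intro x hx
    have : x ∈ schurM G := ⟨Abelianization.commutator_subset_ker (ceHom G) hx, hx⟩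
    exact congrArg Subtype.val (Subsingleton.elim (⟨x, this⟩ : schurM G) 1)
  have hsup : f.range ⊔ (Twist.proj a b).ker = ⊤ := by
    refine top_le_iff.1 fun d _ => ?_
    obtain ⟨x, hx⟩ := ceHom_surjective G (Twist.proj a b d)
    have h1 : (f x)⁻¹ * d ∈ (Twist.proj a b).ker := by
      rw [MonoidHom.mem_ker, map_mul, map_inv,
        show Twist.proj a b (f x) = Twist.proj a b d from (DFunLike.congr_fun hf x).trans hx,
        inv_mul_cancel]
    have := (f.range ⊔ (Twist.proj a b).ker).mul_mem
      (mem_sup_left (show f x ∈ f.range from ⟨_, rfl⟩)) (mem_sup_right h1)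
    rwa [mul_inv_cancel_left] at this
  have hT : commutator (Twist a b) ≤ ⊥ := by
    refine (commutator_le_of_sup_central _ _ hc hsup).trans ?_
    rw [MonoidHom.range_eq_map, ← map_commutator, ← _root_.commutator_def, hM, Subgroup.map_bot]
  have h1 : ⁅(⟨g, 0⟩ : Twist a b), (⟨k, 0⟩ : Twist a b)⁆ = (1 : Twist a b) :=
    hT (commutator_mem_commutator (mem_top _) (mem_top _))
  have h2 := congrArg Twist.snd (commutatorElement_eq_one_iff_mul_comm.1 h1)
  simpa [Twist.mul_snd] using h2

end Cfsg.Agent.Lib.Multiplier
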