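/-
The multiplier of a direct product.
-/
import Cfsg.Agent.Lib.Multiplier.Basic
import Mathlib.LinearAlgebra.TensorProduct.Basic
import Mathlib.Algebra.Group.MinimalAxioms
import Mathlib.GroupTheory.Commutator.Basic

set_option autoImplicit false
set_option linter.style.haveILetI false
set_option linter.unusedSectionVars false

namespace Cfsg.Agent.Lib.Multiplier

universe u v w

open Subgroup
open scoped commutatorElement TensorProduct

/-- `Γ₁ × Γ₂ × T` twisted by a pairing `Γ₁ → Γ₂ → T`. -/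
@[ext]
structure Twist2 {Γ₁ : Type u} {Γ₂ : Type v} {T : Type w} [Group Γ₁] [Group Γ₂] [AddCommGroup T]
    (c : Additive Γ₁ →+ Additive Γ₂ →+ T) where
  /-- first coordinate -/
  fst : Γ₁
  /-- second coordinate -/
  snd : Γ₂
  /-- central coordinate -/
  trd : T

namespace Twist2

variable {Γ₁ : Type u} {Γ₂ : Type v} {T : Type w} [Group Γ₁] [Group Γ₂] [AddCommGroup T]
  (c : Additive Γ₁ →+ Additive Γ₂ →+ T)

instance : Mul (Twist2 c) :=
  ⟨fun x y => ⟨x.fst * y.fst, x.snd * y.snd,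
    x.trd + y.trd + c (Additive.ofMul x.fst) (Additive.ofMul y.snd)⟩⟩

instance : One (Twist2 c) := ⟨⟨1, 1, 0⟩⟩

instance : Inv (Twist2 c) :=
  ⟨fun x => ⟨x.fst⁻¹, x.snd⁻¹, -x.trd + c (Additive.ofMul x.fst) (Additive.ofMul x.snd)⟩⟩

theorem mul_fst (x y : Twist2 c) : (x * y).fst = x.fst * y.fst := rfl
theorem mul_snd (x y : Twist2 c) : (x * y).snd = x.snd * y.snd := rfl
theorem mul_trd (x y : Twist2 c) : (x * y).trd =
    x.trd + y.trd + c (Additive.ofMul x.fst) (Additive.ofMul y.snd) := rfl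

instance instGroup : Group (Twist2 c) :=
  Group.ofLeftAxioms
    (fun x y z => by
      ext
      · exact mul_assoc _ _ _
      · exact mul_assoc _ _ _
      · simp only [mul_trd, mul_fst, mul_snd, ofMul_mul, map_add, AddMonoidHom.add_apply]; abel)
    (fun x => by
      ext
      · exact one_mul _
      · exact one_mul _
      · show (0 : T) + x.trd + c (Additive.ofMul 1) (Additive.ofMul x.snd) = x.trd
        simp)
    (fun x => by
      ext
      · exact inv_mul_cancel _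
      · exact inv_mul_cancel _
      · show -x.trd + c (Additive.ofMul x.fst) (Additive.ofMul x.snd) + x.trd
            + c (Additive.ofMul x.fst⁻¹) (Additive.ofMul x.snd) = 0
        simp only [ofMul_inv, map_neg, AddMonoidHom.neg_apply]; abel)

/-- Projection through maps out of the two factors. -/
def proj {Q₁ : Type*} {Q₂ : Type*} [Group Q₁] [Group Q₂] (σ₁ : Γ₁ →* Q₁) (σ₂ : Γ₂ →* Q₂) :
    Twist2 c →* Q₁ × Q₂ where
  toFun x := (σ₁ x.fst, σ₂ x.snd)
  map_one' := Prod.ext (map_one σ₁) (map_one σ₂)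
  map_mul' x y := Prod.ext (map_mul σ₁ _ _) (map_mul σ₂ _ _)

/-- The embedding of the first factor. -/
def inl : Γ₁ →* Twist2 c where
  toFun x := ⟨x, 1, 0⟩
  map_one' := rfl
  map_mul' x y := by ext <;> simp [mul_fst, mul_snd, mul_trd]

/-- The embedding of the second factor. -/
def inr : Γ₂ →* Twist2 c where
  toFun y := ⟨1, y, 0⟩
  map_one' := rfl
  map_mul' x y := by ext <;> simp [mul_fst, mul_snd, mul_trd]

end Twist2

variable {Q₁ : Type u} {Q₂ : Type v} [Group Q₁] [Group Q₂]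

/-- The abelian group `Q₁ᵃᵇ ⊗ Q₂ᵃᵇ`. -/
abbrev AbTensor (Q₁ : Type u) (Q₂ : Type v) [Group Q₁] [Group Q₂] : Type max u v :=
  Additive (Abelianization Q₁) ⊗[ℤ] Additive (Abelianization Q₂)

/-- A stem extension of the product with kernel `M₁ × M₂ × T`. -/
theorem exists_product_cover {A B : Type w} [CommGroup A] [CommGroup B] [Finite Q₁] [Finite Q₂]
    (hA : HasSchurMultiplier Q₁ A) (hB : HasSchurMultiplier Q₂ B) :
    ∃ (Γ : Type max u v) (_ : Group Γ) (_ : Finite Γ) (σ : Γ →* Q₁ × Q₂), IsStemExtension σ ∧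
      Nonempty (σ.ker ≃* A × B × Multiplicative (AbTensor Q₁ Q₂)) := by
  obtain ⟨⟨Γ₁, _, _, σ₁, hσ₁, ⟨e₁⟩⟩, -⟩ := hA
  obtain ⟨⟨Γ₂, _, _, σ₂, hσ₂, ⟨e₂⟩⟩, -⟩ := hB
  let a₁ : Additive Γ₁ →+ Additive (Abelianization Q₁) :=
    MonoidHom.toAdditive (Abelianization.of.comp σ₁)
  let a₂ : Additive Γ₂ →+ Additive (Abelianization Q₂) :=
    MonoidHom.toAdditive (Abelianization.of.comp σ₂)
  let c : Additive Γ₁ →+ Additive Γ₂ →+ AbTensor Q₁ Q₂ :=
    { toFun := fun x =>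
        { toFun := fun y => a₁ x ⊗ₜ[ℤ] a₂ y
          map_zero' := by rw [map_zero, TensorProduct.tmul_zero]
          map_add' := fun y y' => by rw [map_add, TensorProduct.tmul_add] }
      map_zero' := by ext y; show a₁ 0 ⊗ₜ[ℤ] a₂ y = 0; rw [map_zero, TensorProduct.zero_tmul]
      map_add' := fun x x' => by
        ext y; show a₁ (x + x') ⊗ₜ[ℤ] a₂ y = a₁ x ⊗ₜ[ℤ] a₂ y + a₁ x' ⊗ₜ[ℤ] a₂ y
        rw [map_add, TensorProduct.add_tmul] }
  let σ := Twist2.proj c σ₁ σ₂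
  have hmem : ∀ x : Twist2 c, x ∈ σ.ker ↔ x.fst ∈ σ₁.ker ∧ x.snd ∈ σ₂.ker := fun x => Prod.ext_iff
  have hc1 : ∀ x ∈ σ₁.ker, ∀ y, c (Additive.ofMul x) y = 0 := fun x hx y => by
    show a₁ (Additive.ofMul x) ⊗ₜ[ℤ] a₂ y = 0
    rw [show a₁ (Additive.ofMul x) = 0 from
      congrArg Additive.ofMul ((congrArg Abelianization.of hx).trans (map_one _)),
      TensorProduct.zero_tmul]
  have hc2 : ∀ y ∈ σ₂.ker, ∀ x, c x (Additive.ofMul y) = 0 := fun y hy x => by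
    show a₁ x ⊗ₜ[ℤ] a₂ (Additive.ofMul y) = 0
    rw [show a₂ (Additive.ofMul y) = 0 from
      congrArg Additive.ofMul ((congrArg Abelianization.of hy).trans (map_one _)),
      TensorProduct.tmul_zero]
  have hstem : IsStemExtension σ := by
    refine ⟨?_, ?_, ?_⟩
    · rintro ⟨q₁, q₂⟩
      obtain ⟨x, rfl⟩ := hσ₁.1 q₁
      obtain ⟨y, rfl⟩ := hσ₂.1 q₂
      exact ⟨⟨x, y, 0⟩, rfl⟩
    · intro z hz
      obtain ⟨h1, h2⟩ := (hmem z).1 hz
      rw [mem_center_iff]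
      intro g
      ext
      · exact mem_center_iff.1 (hσ₁.2.1 h1) g.fst
      · exact mem_center_iff.1 (hσ₂.2.1 h2) g.snd
      · rw [Twist2.mul_trd, Twist2.mul_trd, hc2 _ h2, hc1 _ h1, add_comm g.trd z.trd]
    · intro z hz
      obtain ⟨h1, h2⟩ := (hmem z).1 hz
      have hT : ∀ t : AbTensor Q₁ Q₂, (⟨1, 1, t⟩ : Twist2 c) ∈ commutator (Twist2 c) := by
        intro t
        induction t using TensorProduct.induction_on with
        | zero => exact one_mem _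
        | tmul p q =>
          obtain ⟨p', hp⟩ := QuotientGroup.mk'_surjective _ p.toMul
          obtain ⟨q', hq⟩ := QuotientGroup.mk'_surjective _ q.toMul
          obtain ⟨x, rfl⟩ := hσ₁.1 p'
          obtain ⟨y, rfl⟩ := hσ₂.1 q'
          have : (⟨1, 1, p ⊗ₜ[ℤ] q⟩ : Twist2 c) = ⁅Twist2.inl c x, Twist2.inr c y⁆ := by
            rw [commutatorElement_def, eq_comm, mul_inv_eq_iff_eq_mul, mul_inv_eq_iff_eq_mul]
            ext
            · simp [Twist2.mul_fst, Twist2.inl, Twist2.inr]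
            · simp [Twist2.mul_snd, Twist2.inl, Twist2.inr]
            · simp [Twist2.mul_trd, Twist2.mul_fst, Twist2.mul_snd, Twist2.inl, Twist2.inr]
              show a₁ (Additive.ofMul x) ⊗ₜ[ℤ] a₂ (Additive.ofMul y) = p ⊗ₜ[ℤ] q
              rw [show a₁ (Additive.ofMul x) = p from congrArg Additive.ofMul hp,
                show a₂ (Additive.ofMul y) = q from congrArg Additive.ofMul hq]
          rw [this]
          exact commutator_mem_commutator (mem_top _) (mem_top _)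
        | add s t hs ht =>
          have : (⟨1, 1, s + t⟩ : Twist2 c) = ⟨1, 1, s⟩ * ⟨1, 1, t⟩ := by
            ext <;> simp [Twist2.mul_fst, Twist2.mul_snd, Twist2.mul_trd]
          rw [this]; exact mul_mem hs ht
      have hdec : z = Twist2.inl c z.fst * Twist2.inr c z.snd * ⟨1, 1, z.trd⟩ := by
        ext <;> simp [Twist2.mul_fst, Twist2.mul_snd, Twist2.mul_trd, Twist2.inl, Twist2.inr,
          hc1 _ h1]
      rw [hdec]
      refine mul_mem (mul_mem ?_ ?_) (hT _)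
      · have := mem_map_of_mem (Twist2.inl c) (hσ₁.2.2 h1)
        rw [_root_.commutator_def, map_commutator] at this
        exact commutator_mono le_top le_top this
      · have := mem_map_of_mem (Twist2.inr c) (hσ₂.2.2 h2)
        rw [_root_.commutator_def, map_commutator] at this
        exact commutator_mono le_top le_top this
  refine ⟨Twist2 c, inferInstance, finite_of_isStemExtension σ hstem, σ, hstem, ⟨?_⟩⟩
  let e : σ.ker ≃* σ₁.ker × σ₂.ker × Multiplicative (AbTensor Q₁ Q₂) :=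
    { toFun := fun x => (⟨x.1.fst, ((hmem _).1 x.2).1⟩, ⟨x.1.snd, ((hmem _).1 x.2).2⟩,
        Multiplicative.ofAdd x.1.trd)
      invFun := fun p => ⟨⟨p.1.1, p.2.1.1, p.2.2.toAdd⟩, (hmem _).2 ⟨p.1.2, p.2.1.2⟩⟩
      left_inv := fun _ => rfl
      right_inv := fun _ => rfl
      map_mul' := fun x y => by
        refine Prod.ext (Subtype.ext rfl) (Prod.ext (Subtype.ext rfl) ?_)
        show Multiplicative.ofAdd (x.1.trd + y.1.trd + _) = _
        rw [hc1 _ ((hmem _).1 x.2).1, add_zero]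
        rfl }
  exact e.trans (e₁.prodCongr (e₂.prodCongr (MulEquiv.refl _)))

/-- A kernel element in the derived group of a central extension comes from the multiplier. -/
theorem exists_of_mem_derived {Q : Type v} [Group Q] {Δ : Type u} [Group Δ] (D : Subgroup Δ)
    (σ : D →* Q) (f : FreeCE Q →* D) (hf : σ.comp f = ceHom Q)
    (hc : σ.ker ≤ Subgroup.center D) (d : Δ) (hd : d ∈ D) (hdd : d ∈ ⁅D, D⁆)
    (hσd : σ ⟨d, hd⟩ = 1) : ∃ x : schurM Q, (f x.1).1 = d := by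
  have hsup : f.range ⊔ σ.ker = ⊤ := by
    refine top_le_iff.1 fun y _ => ?_
    obtain ⟨x, hx⟩ := ceHom_surjective Q (σ y)
    have h1 : (f x)⁻¹ * y ∈ σ.ker := by
      rw [MonoidHom.mem_ker, map_mul, map_inv, ← MonoidHom.comp_apply σ, hf, hx, inv_mul_cancel]
    have := (f.range ⊔ σ.ker).mul_mem
      (mem_sup_left (show f x ∈ f.range from ⟨_, rfl⟩)) (mem_sup_right h1)
    rwa [mul_inv_cancel_left] at this
  rw [← Subgroup.map_subtype_commutator] at hdd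
  obtain ⟨y, hy, rfl⟩ := hdd
  have h2 := commutator_le_of_sup_central _ _ hc hsup hy
  rw [MonoidHom.range_eq_map, ← map_commutator, ← _root_.commutator_def] at h2
  obtain ⟨x, hx, rfl⟩ := h2
  refine ⟨⟨x, ?_, hx⟩, rfl⟩
  show ceHom Q x = 1
  rw [← hf, MonoidHom.comp_apply]; exact hσd

/-- The kernel of any stem extension of the product is an image of `M₁ × M₂ × T`. -/
theorem exists_product_surjective {A B : Type w} [CommGroup A] [CommGroup B] [Finite Q₁] [Finite Q₂]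
    (hA : HasSchurMultiplier Q₁ A) (hB : HasSchurMultiplier Q₂ B)
    {Δ : Type*} [Group Δ] (τ : Δ →* Q₁ × Q₂) (hτ : IsStemExtension τ) :
    ∃ π : A × B × Multiplicative (AbTensor Q₁ Q₂) →* τ.ker, Function.Surjective π := by
  obtain ⟨eA⟩ := mulEquiv_of_hasSchurMultiplier hA
  obtain ⟨eB⟩ := mulEquiv_of_hasSchurMultiplier hB
  letI : CommGroup τ.ker :=
    { τ.ker.toGroup with
      mul_comm := fun a b => Subtype.ext (mem_center_iff.1 (hτ.2.1 b.2) a.1) }
  let D₁ : Subgroup Δ := ((MonoidHom.snd Q₁ Q₂).comp τ).ker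
  let D₂ : Subgroup Δ := ((MonoidHom.fst Q₁ Q₂).comp τ).ker
  let σ₁ : D₁ →* Q₁ := ((MonoidHom.fst Q₁ Q₂).comp τ).domRestrict D₁
  let σ₂ : D₂ →* Q₂ := ((MonoidHom.snd Q₁ Q₂).comp τ).domRestrict D₂
  have hk₁ : ∀ x : D₁, τ x = (σ₁ x, 1) := fun x => Prod.ext rfl x.2
  have hk₂ : ∀ x : D₂, τ x = (1, σ₂ x) := fun x => Prod.ext x.2 rfl
  have hs₁ : Function.Surjective σ₁ := fun q => by
    obtain ⟨d, hd⟩ := hτ.1 (q, 1)
    exact ⟨⟨d, by show (τ d).2 = 1; rw [hd]⟩, by show (τ d).1 = q; rw [hd]⟩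
  have hs₂ : Function.Surjective σ₂ := fun q => by
    obtain ⟨d, hd⟩ := hτ.1 (1, q)
    exact ⟨⟨d, by show (τ d).1 = 1; rw [hd]⟩, by show (τ d).2 = q; rw [hd]⟩
  have hc₁ : σ₁.ker ≤ Subgroup.center D₁ := fun x hx => mem_center_iff.2 fun y =>
    Subtype.ext (mem_center_iff.1 (hτ.2.1 (show x.1 ∈ τ.ker by
      rw [MonoidHom.mem_ker, hk₁, MonoidHom.mem_ker.1 hx]; rfl)) y.1)
  have hc₂ : σ₂.ker ≤ Subgroup.center D₂ := fun x hx => mem_center_iff.2 fun y =>
    Subtype.ext (mem_center_iff.1 (hτ.2.1 (show x.1 ∈ τ.ker by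
      rw [MonoidHom.mem_ker, hk₂, MonoidHom.mem_ker.1 hx]; rfl)) y.1)
  obtain ⟨f₁, hf₁⟩ := exists_lift Q₁ σ₁ hs₁ hc₁
  obtain ⟨f₂, hf₂⟩ := exists_lift Q₂ σ₂ hs₂ hc₂
  let g₁ : schurM Q₁ →* τ.ker := ((D₁.subtype.comp f₁).domRestrict _).codRestrict _ fun x => by
    show τ (f₁ x.1).1 = 1
    rw [hk₁, ← MonoidHom.comp_apply σ₁, hf₁, MonoidHom.mem_ker.1 x.2.1]; rfl
  let g₂ : schurM Q₂ →* τ.ker := ((D₂.subtype.comp f₂).domRestrict _).codRestrict _ fun x => by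
    show τ (f₂ x.1).1 = 1
    rw [hk₂, ← MonoidHom.comp_apply σ₂, hf₂, MonoidHom.mem_ker.1 x.2.1]; rfl
  -- the commutator pairing
  let s₁ : Q₁ → D₁ := Function.surjInv hs₁
  let s₂ : Q₂ → D₂ := Function.surjInv hs₂
  have hcomm : ∀ (x : D₁) (y : D₂), ⁅(x : Δ), (y : Δ)⁆ ∈ τ.ker := fun x y => by
    rw [MonoidHom.mem_ker, map_commutatorElement, hk₁, hk₂, commutatorElement_eq_one_iff_mul_comm]
    simp
  let P : D₁ → D₂ → τ.ker := fun x y => ⟨_, hcomm x y⟩
  have hPcl : ∀ (x : D₁) (y y' : D₂), P x (y * y') = P x y * P x y' := fun x y y' => by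
    apply Subtype.ext
    show ⁅(x : Δ), (y : Δ) * (y' : Δ)⁆ = ⁅(x : Δ), (y : Δ)⁆ * ⁅(x : Δ), (y' : Δ)⁆
    rw [show ⁅(x : Δ), (y : Δ) * (y' : Δ)⁆ =
        ⁅(x : Δ), (y : Δ)⁆ * ((y : Δ) * ⁅(x : Δ), (y' : Δ)⁆ * (y : Δ)⁻¹) by
          simp only [commutatorElement_def]; group,
      mem_center_iff.1 (hτ.2.1 (hcomm x y')) (y : Δ), mul_inv_cancel_right]
  have hPcl' : ∀ (x x' : D₁) (y : D₂), P (x * x') y = P x y * P x' y := fun x x' y => by
    apply Subtype.ext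
    show ⁅(x : Δ) * (x' : Δ), (y : Δ)⁆ = ⁅(x : Δ), (y : Δ)⁆ * ⁅(x' : Δ), (y : Δ)⁆
    rw [show ⁅(x : Δ) * (x' : Δ), (y : Δ)⁆ =
        (x : Δ) * ⁅(x' : Δ), (y : Δ)⁆ * (x : Δ)⁻¹ * ⁅(x : Δ), (y : Δ)⁆ by
          simp only [commutatorElement_def]; group,
      mem_center_iff.1 (hτ.2.1 (hcomm x' y)) (x : Δ),
      mul_inv_cancel_right]
    exact congrArg Subtype.val (mul_comm (P x' y) (P x y))
  have hPind : ∀ (x x' : D₁) (y y' : D₂), σ₁ x = σ₁ x' → σ₂ y = σ₂ y' → P x y = P x' y' := by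
    intro x x' y y' hx hy
    have h1 : P (x * x'⁻¹) y = 1 := by
      refine Subtype.ext ?_
      show ⁅((x * x'⁻¹ : D₁) : Δ), (y : Δ)⁆ = 1
      refine commutatorElement_eq_one_iff_mul_comm.2 (mem_center_iff.1 (hτ.2.1 ?_) _).symm
      show τ ((x * x'⁻¹ : D₁) : Δ) = 1
      rw [hk₁, map_mul, map_inv, hx, mul_inv_cancel]; rfl
    have h2 : P x' (y * y'⁻¹) = 1 := by
      refine Subtype.ext ?_
      show ⁅(x' : Δ), ((y * y'⁻¹ : D₂) : Δ)⁆ = 1
      refine commutatorElement_eq_one_iff_mul_comm.2 (mem_center_iff.1 (hτ.2.1 ?_) _)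
      show τ ((y * y'⁻¹ : D₂) : Δ) = 1
      rw [hk₂, map_mul, map_inv, hy, mul_inv_cancel]; rfl
    calc P x y = P (x * x'⁻¹ * x') y := by rw [inv_mul_cancel_right]
      _ = P x' y := by rw [hPcl', h1, one_mul]
      _ = P x' (y * y'⁻¹ * y') := by rw [inv_mul_cancel_right]
      _ = P x' y' := by rw [hPcl, h2, one_mul]
  have hsplit₁ : ∀ x x' : Q₁, σ₁ (s₁ (x * x')) = σ₁ (s₁ x * s₁ x') := fun x x' => by
    simp [s₁, Function.surjInv_eq hs₁]
  have hsplit₂ : ∀ x x' : Q₂, σ₂ (s₂ (x * x')) = σ₂ (s₂ x * s₂ x') := fun x x' => by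
    simp [s₂, Function.surjInv_eq hs₂]
  let p₂ : Q₁ → (Abelianization Q₂ →* τ.ker) := fun q => Abelianization.lift
    (MonoidHom.mk' (fun q' => P (s₁ q) (s₂ q'))
      (fun a b => by
        show P (s₁ q) (s₂ (a * b)) = _
        rw [← hPcl]; exact hPind _ _ _ _ rfl (hsplit₂ a b)))
  let p₁ : Abelianization Q₁ →* (Abelianization Q₂ →* τ.ker) := Abelianization.lift
    (MonoidHom.mk' p₂ (fun a b => by
      refine Abelianization.hom_ext _ _ (MonoidHom.ext fun q' => ?_)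
      show P (s₁ (a * b)) (s₂ q') = P (s₁ a) (s₂ q') * P (s₁ b) (s₂ q')
      rw [← hPcl']; exact hPind _ _ _ _ (hsplit₁ a b) rfl))
  let pa : Additive (Abelianization Q₁) →+ Additive (Abelianization Q₂) →+ Additive τ.ker :=
    { toFun := fun x => MonoidHom.toAdditive (p₁ x.toMul)
      map_zero' := by ext y; simp
      map_add' := fun x x' => by ext y; simp }
  let g₃ : Multiplicative (AbTensor Q₁ Q₂) →* τ.ker :=
    AddMonoidHom.toMultiplicativeLeft (TensorProduct.liftAddHom pa (fun r m n => by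
      rw [map_zsmul, AddMonoidHom.smul_apply, map_zsmul]))
  let π : A × B × Multiplicative (AbTensor Q₁ Q₂) →* τ.ker :=
    (g₁.comp eA.toMonoidHom).coprod ((g₂.comp eB.toMonoidHom).coprod g₃)
  refine ⟨π, ?_⟩
  -- the derived group
  haveI : D₁.Normal := MonoidHom.normal_ker _
  haveI : D₂.Normal := MonoidHom.normal_ker _
  let E : Subgroup Δ := g₃.range.map τ.ker.subtype
  have hE : E ≤ Subgroup.center Δ := (map_subtype_le _).trans hτ.2.1
  haveI : E.Normal := ⟨fun z hz g => by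
    rw [mem_center_iff.1 (hE hz) g, mul_inv_cancel_right]; exact hz⟩
  let K : Subgroup Δ := ⁅D₁, D₁⁆ ⊔ ⁅D₂, D₂⁆ ⊔ E
  have h12 : ∀ (x : D₁) (y : D₂), ⁅(x : Δ), (y : Δ)⁆ ∈ E := fun x y => by
    refine ⟨P x y, ⟨Multiplicative.ofAdd (Additive.ofMul (Abelianization.of (σ₁ x)) ⊗ₜ[ℤ]
      Additive.ofMul (Abelianization.of (σ₂ y))), ?_⟩, rfl⟩
    show P (s₁ (σ₁ x)) (s₂ (σ₂ y)) = P x y
    exact hPind _ _ _ _ (Function.surjInv_eq hs₁ _) (Function.surjInv_eq hs₂ _)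
  have hder : commutator Δ ≤ K := by
    let m := QuotientGroup.mk' K
    have hKz : ∀ a b : Δ, ⁅a, b⁆ ∈ K → Commute (m a) (m b) := fun a b h => by
      refine commutatorElement_eq_one_iff_mul_comm.1 ?_
      rw [← map_commutatorElement]
      exact (QuotientGroup.eq_one_iff _).2 h
    have h11 : ∀ a b : D₁, Commute (m a.1) (m b.1) := fun a b =>
      hKz _ _ (mem_sup_left (mem_sup_left (commutator_mem_commutator a.2 b.2)))
    have h22 : ∀ a b : D₂, Commute (m a.1) (m b.1) := fun a b =>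
      hKz _ _ (mem_sup_left (mem_sup_right (commutator_mem_commutator a.2 b.2)))
    have h12' : ∀ (a : D₁) (b : D₂), Commute (m a.1) (m b.1) := fun a b =>
      hKz _ _ (mem_sup_right (h12 a b))
    have hdec : ∀ d : Δ, ∃ (a : D₁) (b : D₂), d = a.1 * b.1 := fun d => by
      obtain ⟨a, ha⟩ := hs₁ (τ d).1
      refine ⟨a, ⟨a.1⁻¹ * d, ?_⟩, (mul_inv_cancel_left _ _).symm⟩
      show (τ (a.1⁻¹ * d)).1 = 1
      rw [map_mul, map_inv, hk₁, ha]
      simp
    rw [_root_.commutator_def, Subgroup.commutator_le]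
    intro d _ d' _
    obtain ⟨a, b, rfl⟩ := hdec d
    obtain ⟨a', b', rfl⟩ := hdec d'
    rw [← QuotientGroup.eq_one_iff]
    show m ⁅a.1 * b.1, a'.1 * b'.1⁆ = 1
    rw [map_commutatorElement, map_mul, map_mul, commutatorElement_eq_one_iff_mul_comm]
    exact (((h11 a a').mul_right (h12' a b')).mul_left
      ((h12' a' b).symm.mul_right (h22 b b'))).eq
  rintro ⟨z, hz⟩
  obtain ⟨ab, hab, e, ⟨t, ⟨t', rfl⟩, rfl⟩, hzeq⟩ := mem_sup_of_normal_right.1 (hder (hτ.2.2 hz))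
  obtain ⟨a, ha, b, hb, rfl⟩ := mem_sup_of_normal_right.1 hab
  have haD : a ∈ D₁ := commutator_le_self D₁ ha
  have hbD : b ∈ D₂ := commutator_le_self D₂ hb
  have hτab : τ a * τ b = 1 := by
    have h := MonoidHom.mem_ker.1 hz
    rw [← hzeq, map_mul, map_mul] at h
    rw [show τ (τ.ker.subtype (g₃ t')) = 1 from (g₃ t').2, mul_one] at h
    exact h
  have hσa : σ₁ ⟨a, haD⟩ = 1 := by
    rw [hk₁ ⟨a, haD⟩, hk₂ ⟨b, hbD⟩, Prod.mk_mul_mk, mul_one, one_mul, Prod.mk_eq_one] at hτab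
    exact hτab.1
  have hσb : σ₂ ⟨b, hbD⟩ = 1 := by
    rw [hk₁ ⟨a, haD⟩, hk₂ ⟨b, hbD⟩, Prod.mk_mul_mk, mul_one, one_mul, Prod.mk_eq_one] at hτab
    exact hτab.2
  obtain ⟨xa, hxa⟩ := exists_of_mem_derived D₁ σ₁ f₁ hf₁ hc₁ a haD ha hσa
  obtain ⟨xb, hxb⟩ := exists_of_mem_derived D₂ σ₂ f₂ hf₂ hc₂ b hbD hb hσb
  refine ⟨(eA.symm xa, eB.symm xb, t'), Subtype.ext ?_⟩
  show (g₁ (eA (eA.symm xa))).1 * ((g₂ (eB (eB.symm xb))).1 * (g₃ t').1) = z
  rw [eA.apply_symm_apply, eB.apply_symm_apply, ← hzeq, ← mul_assoc]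
  show (f₁ xa.1).1 * (f₂ xb.1).1 * (g₃ t').1 = _
  rw [hxa, hxb]
  rfl

/-- The multiplier of a direct product. -/
theorem hasSchurMultiplier_prod {A B : Type w} [CommGroup A] [CommGroup B] [Finite Q₁] [Finite Q₂]
    (hA : HasSchurMultiplier Q₁ A) (hB : HasSchurMultiplier Q₂ B) :
    HasSchurMultiplier (Q₁ × Q₂) (A × B × Multiplicative (AbTensor Q₁ Q₂)) :=
  ⟨exists_product_cover hA hB, fun _ _ _ τ hτ => exists_product_surjective hA hB τ hτ⟩

/-- Transport along isomorphisms. -/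
theorem hasSchurMultiplier_congr {G H : Type u} [Group G] [Group H] {A : Type v} {B : Type w}
    [CommGroup A] [CommGroup B] (eG : G ≃* H) (eA : A ≃* B) (h : HasSchurMultiplier G A) :
    HasSchurMultiplier H B := by
  have hst : ∀ {Γ : Type u} [Group Γ] {G H : Type u} [Group G] [Group H] (e : G ≃* H)
      (σ : Γ →* G), IsStemExtension σ → IsStemExtension (e.toMonoidHom.comp σ) ∧
        (e.toMonoidHom.comp σ).ker = σ.ker := by
    intro Γ _ G H _ _ e σ hσ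
    have hk : (e.toMonoidHom.comp σ).ker = σ.ker := MonoidHom.ker_mulEquiv_comp σ e
    exact ⟨⟨e.surjective.comp hσ.1, hk ▸ hσ.2.1, hk ▸ hσ.2.2⟩, hk⟩
  obtain ⟨⟨Γ, _, _, σ, hσ, ⟨e⟩⟩, hq⟩ := h
  refine ⟨⟨Γ, inferInstance, inferInstance, eG.toMonoidHom.comp σ, (hst eG σ hσ).1,
    ⟨(MulEquiv.subgroupCongr (hst eG σ hσ).2).trans (e.trans eA)⟩⟩, fun Γ' _ _ τ hτ => ?_⟩
  obtain ⟨hτ', hk⟩ := hst eG.symm τ hτ
  obtain ⟨p, hp⟩ := hq Γ' _ hτ'
  exact ⟨(MulEquiv.subgroupCongr hk).toMonoidHom.comp (p.comp eA.symm.toMonoidHom),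
    (MulEquiv.subgroupCongr hk).surjective.comp (hp.comp eA.symm.surjective)⟩

end Cfsg.Agent.Lib.Multiplier
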