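/-
Restriction of the multiplier to a subgroup: `schurM G → schurM U → schurM G` is the index power.
-/
import Cfsg.Agent.Lib.Multiplier.Basic
import Mathlib.GroupTheory.Transfer
import Mathlib.GroupTheory.FreeGroup.NielsenSchreier
import Mathlib.GroupTheory.FiniteAbelian.Duality
import Mathlib.RingTheory.RootsOfUnity.Complex
import Mathlib.GroupTheory.Torsion
import Mathlib.RingTheory.RootsOfUnity.AlgebraicallyClosed
import Mathlib.Analysis.Complex.Polynomial.Basic

set_option autoImplicit false
set_option linter.style.haveILetI false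
set_option linter.unusedSectionVars false

namespace Cfsg.Agent.Lib.Multiplier

universe u v w

open Subgroup
open scoped commutatorElement

/-- The kernel of `F/[R,F] → G` is commutative. -/
instance ceKerCommGroup (G : Type u) [Group G] : CommGroup (ceHom G).ker :=
  { (ceHom G).ker.toGroup with
    mul_comm := fun a b => Subtype.ext (mem_center_iff.1 (ceHom_ker_le_center G b.2) a.1) }

/-- For a normal subgroup inside `H`, the transfer is the product over the cosets of the
conjugates. -/
theorem prod_conj_eq_one {F : Type u} [Group F] (H R : Subgroup F) [H.FiniteIndex] [R.Normal]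
    [Fintype (F ⧸ H)] (hRH : R ≤ H) {A : Type v} [CommGroup A] (φ : H →* A) {r : F} (hr : r ∈ R)
    (hrd : r ∈ commutator F) :
    ∏ q : F ⧸ H, φ ⟨q.out⁻¹ * r * q.out,
      hRH (Subgroup.Normal.conj_mem' inferInstance r hr q.out)⟩ = 1 := by
  classical
  have h1 : MonoidHom.transfer φ r = 1 :=
    MonoidHom.mem_ker.1 (Abelianization.commutator_subset_ker _ hrd)
  let T : H.LeftTransversal :=
    ⟨Set.range (Quotient.out : F ⧸ H → F), isComplement_range_left QuotientGroup.out_eq'⟩
  rw [MonoidHom.transfer_def φ T, Subgroup.leftTransversals.diff] at h1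
  refine Eq.trans ?_ h1
  refine Finset.prod_congr (by ext; simp) fun q _ => congrArg φ (Subtype.ext ?_)
  show q.out⁻¹ * r * q.out = ((T.2.leftQuotientEquiv q : F))⁻¹ * ((r • T).2.leftQuotientEquiv q : F)
  have hfix : r⁻¹ • q = q := by
    induction q using QuotientGroup.induction_on with
    | H a =>
      show (QuotientGroup.mk (r⁻¹ * a) : F ⧸ H) = QuotientGroup.mk a
      rw [QuotientGroup.eq, mul_inv_rev, inv_inv]
      exact hRH (Subgroup.Normal.conj_mem' inferInstance r hr a)
  rw [Subgroup.smul_apply_eq_smul_apply_inv_smul, hfix, smul_eq_mul,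
    show (T.2.leftQuotientEquiv q : F) = q.out from
      IsComplement.leftQuotientEquiv_apply QuotientGroup.out_eq' q, mul_assoc]

variable {G : Type u} [Group G] [Finite G]

/-- Restriction of the multiplier followed by the natural map back is the index power. -/
theorem exists_restriction (U : Subgroup G) :
    ∃ (ψ : schurM G →* schurM U) (h : schurM U →* schurM G), ∀ a, h (ψ a) = a ^ U.index := by
  classical
  let π : FreeGroup G →* G := FreeGroup.lift (id : G → G)
  have hπ : Function.Surjective π := fun g => ⟨FreeGroup.of g, by simp [π]⟩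
  let H : Subgroup (FreeGroup G) := U.comap π
  have hidx : H.index = U.index := U.index_comap_of_surjective hπ
  haveI : H.FiniteIndex := ⟨by rw [hidx]; exact Subgroup.FiniteIndex.index_ne_zero⟩
  haveI : Fintype (FreeGroup G ⧸ H) := H.fintypeQuotientOfFiniteIndex
  have hRH : relSub G ≤ H := fun x hx => by
    show π x ∈ U
    rw [show π x = 1 from hx]; exact U.one_mem
  -- a lift of `H → U`
  let rho : H →* U := (π.domRestrict H).codRestrict U (fun x => x.2)
  let g : H →* FreeCE U := IsFreeGroup.lift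
    (fun a => Function.surjInv (ceHom_surjective U) (rho (IsFreeGroup.of a)))
  have hg : (ceHom U).comp g = rho := IsFreeGroup.ext_hom fun a => by
    rw [MonoidHom.comp_apply, IsFreeGroup.lift_of]
    exact Function.surjInv_eq (ceHom_surjective U) _
  let cj : ∀ (q : FreeGroup G) (r : relSub G), H := fun q r =>
    ⟨q⁻¹ * r * q, hRH (Subgroup.Normal.conj_mem' inferInstance _ r.2 q)⟩
  have hgker : ∀ (r : relSub G) (q : FreeGroup G), g (cj q r) ∈ (ceHom U).ker := fun r q => by
    rw [MonoidHom.mem_ker, ← MonoidHom.comp_apply, hg]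
    exact Subtype.ext (show π (q⁻¹ * r * q) = 1 from
      Subgroup.Normal.conj_mem' (H := relSub G) inferInstance _ r.2 q)
  let tm : relSub G → FreeGroup G → (ceHom U).ker := fun r q => ⟨_, hgker r q⟩
  have htm : ∀ (r : relSub G) (q q' : FreeGroup G), (q : FreeGroup G ⧸ H) = q' →
      tm r q = tm r q' := by
    intro r q q' hqq
    have hh : q⁻¹ * q' ∈ H := QuotientGroup.eq.1 hqq
    apply Subtype.ext
    show g (cj q r) = g (cj q' r)
    have : cj q' r = (⟨_, hh⟩ : H)⁻¹ * cj q r * ⟨_, hh⟩ := Subtype.ext (by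
      show q'⁻¹ * r * q' = (q⁻¹ * q')⁻¹ * (q⁻¹ * r * q) * (q⁻¹ * q')
      group)
    rw [this, map_mul, map_mul, map_inv, mul_assoc,
      ← mem_center_iff.1 (ceHom_ker_le_center U (hgker r q)) (g ⟨_, hh⟩), inv_mul_cancel_left]
  let N : relSub G →* (ceHom U).ker :=
    { toFun := fun r => ∏ q : FreeGroup G ⧸ H, tm r q.out
      map_one' := Finset.prod_eq_one fun q _ => Subtype.ext (by
        show g (cj q.out 1) = 1
        rw [show cj q.out 1 = 1 from Subtype.ext (by simp [cj]), map_one])
      map_mul' := fun a b => by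
        rw [← Finset.prod_mul_distrib]
        refine Finset.prod_congr rfl fun q _ => Subtype.ext ?_
        show g (cj q.out (a * b)) = g (cj q.out a) * g (cj q.out b)
        rw [← map_mul]
        exact congrArg g (Subtype.ext (by simp [cj, mul_assoc])) }
  have hN : ∀ (r : relSub G) (t : FreeGroup G),
      N ⟨t⁻¹ * r * t, Subgroup.Normal.conj_mem' inferInstance _ r.2 t⟩ = N r := by
    intro r t
    refine Fintype.prod_equiv (MulAction.toPerm t) _ _ fun q => ?_
    have h1 : tm r (t * q.out) = tm r (t • q).out := htm r _ _ (by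
      rw [QuotientGroup.out_eq']
      conv_rhs => rw [← QuotientGroup.out_eq' q]
      rfl)
    refine Eq.trans ?_ h1
    exact Subtype.ext (congrArg g (Subtype.ext (by simp [cj, mul_assoc])))
  -- descend to the kernel of `F/[R,F] → G`
  let s : relSub G →* (ceHom G).ker :=
    ((QuotientGroup.mk' (commRel G)).domRestrict (relSub G)).codRestrict _ (fun x => x.2)
  have hs : Function.Surjective s := by
    rintro ⟨y, hy⟩
    obtain ⟨x, rfl⟩ := QuotientGroup.mk'_surjective (commRel G) y
    exact ⟨⟨x, hy⟩, rfl⟩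
  have hsN : s.ker ≤ N.ker := by
    intro x hx
    have hx' : x.1 ∈ commRel G := (QuotientGroup.eq_one_iff _).1 (congrArg Subtype.val hx)
    have hle : commRel G ≤ N.ker.map (relSub G).subtype := by
      rw [commRel, Subgroup.commutator_le]
      intro r hr t _
      have hm : ⁅r, t⁆ ∈ relSub G := commRel_le_relSub G (commutator_mem_commutator hr (mem_top t))
      refine ⟨⟨_, hm⟩, ?_, rfl⟩
      show N ⟨_, hm⟩ = 1
      have e : (⟨⁅r, t⁆, hm⟩ : relSub G) = ⟨r, hr⟩ *
          (⟨(t⁻¹)⁻¹ * r * t⁻¹, Subgroup.Normal.conj_mem' inferInstance r hr t⁻¹⟩)⁻¹ :=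
        Subtype.ext (by
          show ⁅r, t⁆ = r * ((t⁻¹)⁻¹ * r * t⁻¹)⁻¹
          rw [commutatorElement_def]; group)
      rw [e, map_mul, map_inv, hN ⟨r, hr⟩ t⁻¹, mul_inv_cancel]
    obtain ⟨y, hy, hyx⟩ := hle hx'
    exact (relSub G).subtype_injective hyx ▸ hy
  let N' : (ceHom G).ker →* (ceHom U).ker := s.liftOfSurjective hs ⟨N, hsN⟩
  have hN' : ∀ x, N' (s x) = N x := fun x => MonoidHom.liftOfRightInverse_comp_apply _ _ _ _ _
  have hlift : ∀ a : schurM G, ∃ r : relSub G, r.1 ∈ commutator (FreeGroup G) ∧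
      (QuotientGroup.mk' (commRel G)) r.1 = a.1 := by
    intro a
    have h1 : a.1 ∈ (commutator (FreeGroup G)).map (QuotientGroup.mk' (commRel G)) := by
      rw [_root_.commutator_def, map_commutator,
        Subgroup.map_top_of_surjective _ (QuotientGroup.mk'_surjective _), ← _root_.commutator_def]
      exact a.2.2
    obtain ⟨r, hr, hra⟩ := h1
    refine ⟨⟨r, ?_⟩, hr, hra⟩
    show π r = 1
    have := a.2.1
    rw [← hra] at this
    exact this
  -- its values lie in the derived group
  have hNd : ∀ r : relSub G, r.1 ∈ commutator (FreeGroup G) →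
      ((N r : (ceHom U).ker) : FreeCE U) ∈ schurM U := by
    intro r hr
    refine ⟨(N r).2, ?_⟩
    refine (ceExp_ker U).le (MonoidHom.mem_ker.2 ?_)
    have := prod_conj_eq_one H (relSub G) hRH ((ceExp U).comp g) r.2 hr
    show ((ceExp U).comp (ceHom U).ker.subtype) (∏ q : FreeGroup G ⧸ H, tm r q.out) = 1
    rw [map_prod]
    exact this
  have hmem : ∀ a : schurM G, ((N' ⟨a.1, a.2.1⟩ : (ceHom U).ker) : FreeCE U) ∈ schurM U := by
    intro a
    obtain ⟨r, hr, hra⟩ := hlift a
    rw [show (⟨a.1, a.2.1⟩ : (ceHom G).ker) = s r from Subtype.ext hra.symm, hN']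
    exact hNd r hr
  let ψ : schurM G →* schurM U :=
    ((ceHom U).ker.subtype.comp (N'.comp (Subgroup.inclusion inf_le_left))).codRestrict _ hmem
  -- the map back
  let EU : Subgroup (FreeCE G) := U.comap (ceHom G)
  let σ : EU →* U := ((ceHom G).domRestrict EU).codRestrict U (fun x => x.2)
  have hσs : Function.Surjective σ := fun u => by
    obtain ⟨e, he⟩ := ceHom_surjective G u.1
    exact ⟨⟨e, show ceHom G e ∈ U by rw [he]; exact u.2⟩, Subtype.ext he⟩
  have hσc : σ.ker ≤ Subgroup.center EU := by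
    intro x hx
    have hx' : x.1 ∈ (ceHom G).ker := congrArg Subtype.val (MonoidHom.mem_ker.1 hx)
    rw [mem_center_iff]
    intro y
    exact Subtype.ext (mem_center_iff.1 (ceHom_ker_le_center G hx') y.1)
  obtain ⟨h₀, hh₀⟩ := exists_lift U σ hσs hσc
  let hb : FreeCE U →* FreeCE G := EU.subtype.comp h₀
  have hhb : ∀ x, ceHom G (hb x) = (ceHom U x).1 := fun x =>
    congrArg Subtype.val (DFunLike.congr_fun hh₀ x)
  have hbM : ∀ x : schurM U, hb x.1 ∈ schurM G := fun x => by
    refine ⟨?_, ?_⟩
    · show ceHom G (hb x.1) = 1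
      rw [hhb, show ceHom U x.1 = 1 from x.2.1]; rfl
    · have := mem_map_of_mem hb x.2.2
      rw [_root_.commutator_def, map_commutator] at this
      exact commutator_mono le_top le_top this
  let h : schurM U →* schurM G := (hb.domRestrict (schurM U)).codRestrict _ hbM
  refine ⟨ψ, h, fun a => ?_⟩
  obtain ⟨r, hr, hra⟩ := hlift a
  -- the discrepancy between `hb ∘ g` and the projection
  let pr : H →* FreeCE G := (QuotientGroup.mk' (commRel G)).comp H.subtype
  have hd : ∀ x : H, (pr x)⁻¹ * hb (g x) ∈ (ceHom G).ker := fun x => by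
    rw [MonoidHom.mem_ker, map_mul, map_inv, hhb, ← MonoidHom.comp_apply (ceHom U), hg]
    exact inv_mul_cancel _
  let d : H →* (ceHom G).ker :=
    { toFun := fun x => ⟨_, hd x⟩
      map_one' := Subtype.ext (by simp)
      map_mul' := fun x y => Subtype.ext (by
        show (pr (x * y))⁻¹ * hb (g (x * y)) =
          (pr x)⁻¹ * hb (g x) * ((pr y)⁻¹ * hb (g y))
        have hc := mem_center_iff.1 (ceHom_ker_le_center G (hd x)) (pr y)⁻¹
        simp only [map_mul, mul_inv_rev]
        calc (pr y)⁻¹ * (pr x)⁻¹ * (hb (g x) * hb (g y))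
            = (pr y)⁻¹ * ((pr x)⁻¹ * hb (g x)) * hb (g y) := by simp only [mul_assoc]
          _ = _ := by rw [hc]; simp only [mul_assoc]) }
  apply Subtype.ext
  show hb (N' ⟨a.1, a.2.1⟩).1 = (a ^ U.index).1
  rw [show (⟨a.1, a.2.1⟩ : (ceHom G).ker) = s r from Subtype.ext hra.symm, hN']
  have hkk : ∀ x : (ceHom U).ker, hb x.1 ∈ (ceHom G).ker := fun x => by
    show ceHom G (hb x.1) = 1
    rw [hhb, show ceHom U x.1 = 1 from x.2]; rfl
  let hk : (ceHom U).ker →* (ceHom G).ker := (hb.domRestrict _).codRestrict _ hkk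
  have key : hk (N r) = (s r) ^ U.index := by
    show hk (∏ q : FreeGroup G ⧸ H, tm r q.out) = _
    rw [map_prod]
    have hsplit : ∀ q : FreeGroup G ⧸ H, hk (tm r q.out) = s r * d (cj q.out r) := by
      intro q
      apply Subtype.ext
      show hb (g (cj q.out r)) =
        (QuotientGroup.mk' (commRel G)) r.1 * ((pr (cj q.out r))⁻¹ * hb (g (cj q.out r)))
      have : pr (cj q.out r) = (QuotientGroup.mk' (commRel G)) r.1 := by
        show (QuotientGroup.mk' (commRel G)) (q.out⁻¹ * r * q.out) = _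
        rw [map_mul, map_mul, map_inv, mul_assoc,
          ← mem_center_iff.1 (ceHom_ker_le_center G (s r).2 :
            (QuotientGroup.mk' (commRel G)) r.1 ∈ _) _, inv_mul_cancel_left]
      rw [this, mul_inv_cancel_left]
    rw [Finset.prod_congr rfl fun q _ => hsplit q, Finset.prod_mul_distrib,
      prod_conj_eq_one H (relSub G) hRH d r.2 hr, mul_one, Finset.prod_const, Finset.card_univ,
      ← Nat.card_eq_fintype_card]
    exact congrArg _ hidx
  exact (congrArg Subtype.val key).trans (congrArg (· ^ U.index) hra)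

/-- A quotient of a finite abelian group embeds in it. -/
theorem exists_injective_of_surjective {B : Type v} {C : Type w} [CommGroup B] [CommGroup C]
    [Finite B] (f : B →* C) (hf : Function.Surjective f) :
    ∃ i : C →* B, Function.Injective i := by
  haveI : Finite C := Finite.of_surjective f hf
  haveI : NeZero (Monoid.exponent B) := ⟨Monoid.exponent_ne_zero_of_finite⟩
  haveI : NeZero (Monoid.exponent C) := ⟨Monoid.exponent_ne_zero_of_finite⟩
  obtain ⟨eB⟩ := CommGroup.monoidHom_mulEquiv_of_hasEnoughRootsOfUnity B ℂ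
  obtain ⟨eC⟩ := CommGroup.monoidHom_mulEquiv_of_hasEnoughRootsOfUnity C ℂ
  let j : (C →* ℂˣ) →* (B →* ℂˣ) :=
    { toFun := fun χ => χ.comp f
      map_one' := rfl
      map_mul' := fun _ _ => rfl }
  have hj : Function.Injective j := fun χ χ' h => (MonoidHom.cancel_right hf).1 h
  exact ⟨eB.toMonoidHom.comp (j.comp eC.symm.toMonoidHom),
    fun x y h => eC.symm.injective (hj (eB.injective h))⟩

omit [Finite G] in
/-- An index-power retraction exhibits the `p`-part as a direct factor. -/
theorem exists_factor_of_power {A : Type v} {B : Type w} [CommGroup A] [Finite A] [CommGroup B]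
    (p : ℕ) [Fact p.Prime] (m : ℕ) (hm : ¬ p ∣ m) (ψ : A →* B) (h : B →* A)
    (hψ : ∀ a, h (ψ a) = a ^ m) :
    ∃ C D : Subgroup B, C ⊓ D = ⊥ ∧ C ⊔ D = ⊤ ∧
      Nonempty (CommGroup.primaryComponent A p ≃* C) := by
  have hp : p.Prime := Fact.out
  set n := Nat.card A with hn
  have hn0 : n ≠ 0 := Nat.card_pos.ne'
  set P := p ^ n.factorization p with hP
  set n' := n / P with hn'
  have hPn : P * n' = n := Nat.ordProj_mul_ordCompl_eq_self n p
  have hcop : Nat.Coprime (m * n') P :=
    (Nat.Coprime.mul_left (hp.coprime_iff_not_dvd.2 hm).symm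
      (Nat.coprime_ordCompl hp hn0).symm).pow_right _
  have hmem : ∀ a : A, a ∈ CommGroup.primaryComponent A p ↔ a ^ P = 1 := by
    intro a
    constructor
    · rintro ⟨k, hk⟩
      rw [← orderOf_dvd_iff_pow_eq_one]
      obtain ⟨j, -, hj⟩ := (Nat.dvd_prime_pow hp).1 (orderOf_dvd_of_pow_eq_one hk)
      rw [hj]
      exact (Nat.pow_dvd_pow p ((hp.pow_dvd_iff_le_factorization hn0).1
        (hj ▸ orderOf_dvd_natCard a)))
    · intro ha
      exact ⟨_, ha⟩
  let Ap := CommGroup.primaryComponent A p
  refine ⟨Ap.map ψ, (powMonoidHom n' : A →* A).ker.comap h, ?_, ?_, ?_⟩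
  · rw [eq_bot_iff]
    rintro _ ⟨⟨a, ha, rfl⟩, hb⟩
    have h1 : a ^ (m * n') = 1 := by
      rw [pow_mul, ← hψ]; exact hb
    have h2 : a = 1 := by
      rw [← orderOf_eq_one_iff]
      exact Nat.eq_one_of_dvd_coprimes hcop (orderOf_dvd_of_pow_eq_one h1)
        (orderOf_dvd_of_pow_eq_one ((hmem a).1 ha))
    simp [h2]
  · refine top_le_iff.1 fun b _ => ?_
    let x := h b
    let u := Nat.gcdA (m * n') P
    let a := (x ^ n') ^ u
    have hx : (x ^ n') ^ P = 1 := by
      rw [← pow_mul, mul_comm n', hPn, hn, pow_card_eq_one']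
    have ha : a ∈ Ap := (hmem a).2 (by
      rw [← zpow_natCast a P, ← zpow_mul, mul_comm, zpow_mul, zpow_natCast, hx, one_zpow])
    have hkey : a ^ (m * n') = x ^ n' := by
      have hb := Nat.gcd_eq_gcd_ab (m * n') P
      rw [hcop.gcd_eq_one] at hb
      calc a ^ (m * n') = (x ^ n') ^ (((m * n' : ℕ) : ℤ) * u) := by
            rw [← zpow_natCast a (m * n'), ← zpow_mul, mul_comm]
        _ = (x ^ n') ^ (((m * n' : ℕ) : ℤ) * u + (P : ℤ) * Nat.gcdB (m * n') P) := by
            rw [zpow_add, zpow_mul (x ^ n') (P : ℤ), zpow_natCast (x ^ n') P, hx, one_zpow, mul_one]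
        _ = x ^ n' := by rw [← hb, Nat.cast_one, zpow_one]
    have hD : b * (ψ a)⁻¹ ∈ (powMonoidHom n' : A →* A).ker.comap h := by
      show h (b * (ψ a)⁻¹) ^ n' = 1
      rw [map_mul, map_inv, hψ, mul_pow, inv_pow, ← pow_mul, hkey]
      exact mul_inv_cancel _
    have := (Ap.map ψ ⊔ (powMonoidHom n' : A →* A).ker.comap h).mul_mem (mem_sup_right hD)
      (mem_sup_left (mem_map_of_mem ψ ha))
    rwa [inv_mul_cancel_right] at this
  · refine ⟨MulEquiv.ofBijective (ψ.subgroupMap Ap)
      ⟨?_, MonoidHom.subgroupMap_surjective _ _⟩⟩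
    rw [← MonoidHom.ker_eq_bot_iff, eq_bot_iff]
    intro a ha
    have h0 : ψ a.1 = 1 := congrArg Subtype.val (MonoidHom.mem_ker.1 ha)
    have h1 : a.1 ^ (m * n') = 1 := by rw [pow_mul, ← hψ, h0, map_one, one_pow]
    refine Subgroup.mem_bot.2 (Subtype.ext ?_)
    show a.1 = 1
    rw [← orderOf_eq_one_iff]
    exact Nat.eq_one_of_dvd_coprimes hcop (orderOf_dvd_of_pow_eq_one h1)
      (orderOf_dvd_of_pow_eq_one ((hmem a.1).1 a.2))

end Cfsg.Agent.Lib.Multiplier
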