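/-
Scalars: characters, monomial representations and projective representations against stem
extensions.
-/
import Cfsg.Agent.Lib.Multiplier.Basic
import Cfsg.Agent.Lib.Multiplier.Central
import Cfsg.Agent.Lib.Multiplier.Sylow
import Mathlib.Algebra.Category.Grp.Injective
import Mathlib.RepresentationTheory.Maschke
import Mathlib.RingTheory.SimpleModule.IsAlgClosed
import Mathlib.LinearAlgebra.Matrix.GeneralLinearGroup.Basic
import Mathlib.LinearAlgebra.Matrix.ToLin
import Mathlib.Analysis.Complex.Polynomial.Basic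
import Mathlib.RingTheory.RootsOfUnity.Complex

set_option autoImplicit false
set_option linter.style.haveILetI false
set_option linter.unusedSectionVars false

namespace Cfsg.Agent.Lib.Multiplier

universe u v w

open Subgroup
open scoped commutatorElement

/-- A homomorphism into a group with all roots extends from a subgroup meeting the derived group
trivially. -/
theorem exists_extend_of_roots {E : Type u} [Group E] (H : Subgroup E)
    (hH : H ⊓ commutator E = ⊥) {D : Type v} [CommGroup D]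
    (hD : ∀ n : ℕ, n ≠ 0 → Function.Surjective fun d : D => d ^ n) (φ : H →* D) :
    ∃ χ : E →* D, ∀ h : H, χ h = φ h := by
  letI : DivisibleBy (Additive D) ℕ := divisibleByOfSMulRightSurj _ _ fun {n} hn x => by
    obtain ⟨y, hy⟩ := hD n hn x.toMul
    exact ⟨Additive.ofMul y, congrArg Additive.ofMul hy⟩
  letI : DivisibleBy (Additive D) ℤ := AddGroup.divisibleByIntOfDivisibleByNat _
  letI : CommGroup H :=
    { H.toGroup with
      mul_comm := fun a b => by
        have h1 : ⁅(a : E), (b : E)⁆ ∈ H ⊓ commutator E :=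
          ⟨H.mul_mem (H.mul_mem (H.mul_mem a.2 b.2) (H.inv_mem a.2)) (H.inv_mem b.2),
            commutator_mem_commutator (mem_top _) (mem_top _)⟩
        rw [hH, Subgroup.mem_bot, commutatorElement_eq_one_iff_mul_comm] at h1
        exact Subtype.ext h1 }
  let i : H →* Abelianization E := Abelianization.of.comp H.subtype
  have hi : Function.Injective i := by
    rw [← MonoidHom.ker_eq_bot_iff, eq_bot_iff]
    intro x hx
    have : x.1 ∈ H ⊓ commutator E := ⟨x.2, (QuotientGroup.eq_one_iff _).1 hx⟩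
    rw [hH] at this
    exact Subgroup.mem_bot.2 (Subtype.ext this)
  obtain ⟨g, hg⟩ := (Module.Baer.of_divisible (Additive D)).extension_property_addMonoidHom
    (MonoidHom.toAdditive i) (by exact hi) (MonoidHom.toAdditive φ)
  refine ⟨(MonoidHom.toAdditive.symm g).comp Abelianization.of, fun h => ?_⟩
  exact congrArg Additive.toMul (DFunLike.congr_fun hg (Additive.ofMul h))

/-- Roots in `ℂˣ`. -/
theorem units_complex_roots (n : ℕ) (hn : n ≠ 0) :
    Function.Surjective fun d : ℂˣ => d ^ n := by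
  intro x
  obtain ⟨z, hz⟩ := IsAlgClosed.exists_pow_nat_eq (x : ℂ) (Nat.pos_of_ne_zero hn)
  have hz0 : z ≠ 0 := fun h => x.ne_zero (by rw [← hz, h, zero_pow hn])
  exact ⟨Units.mk0 z hz0, Units.ext (by simpa using hz)⟩

/-- A central element has a linear character on any central subgroup with the same order. -/
theorem exists_character {Γ : Type u} [Group Γ] [Finite Γ] (N : Subgroup Γ)
    (hN : N ≤ Subgroup.center Γ) (z : N) :
    ∃ c : N →* ℂˣ, orderOf (c z) = orderOf z := by
  letI : CommGroup N :=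
    { N.toGroup with
      mul_comm := fun a b => Subtype.ext (mem_center_iff.1 (hN b.2) a.1) }
  have hb : Subgroup.zpowers z ⊓ commutator N = ⊥ := by
    rw [eq_bot_iff]
    intro x hx
    have hle : commutator N ≤ ⊥ := by
      rw [_root_.commutator_def, Subgroup.commutator_le]
      intro a _ b _
      rw [Subgroup.mem_bot, commutatorElement_eq_one_iff_mul_comm]
      exact mul_comm a b
    exact hle hx.2
  have hn : orderOf z ≠ 0 := (orderOf_pos z).ne'
  let ζ := Complex.exp (2 * Real.pi * Complex.I / (orderOf z : ℕ))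
  have hζ : IsPrimitiveRoot ζ (orderOf z) := Complex.isPrimitiveRoot_exp _ hn
  let ζu : ℂˣ := Units.mk0 ζ (hζ.ne_zero hn)
  have hord : orderOf ζu = orderOf z := by
    rw [← orderOf_units]
    exact hζ.eq_orderOf.symm
  let φ : Subgroup.zpowers z →* ℂˣ :=
    monoidHomOfForallMemZpowers (g := ⟨z, Subgroup.mem_zpowers z⟩) (g' := ζu)
      (fun x => by
        obtain ⟨k, hk⟩ := x.2
        exact ⟨k, Subtype.ext (by simpa using hk)⟩)
      (by rw [hord]; exact (Subgroup.orderOf_mk z (Subgroup.mem_zpowers z)).symm.dvd)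
  obtain ⟨c, hc⟩ := exists_extend_of_roots (Subgroup.zpowers z) hb units_complex_roots φ
  refine ⟨c, ?_⟩
  rw [← hord]
  exact congrArg orderOf ((hc ⟨z, Subgroup.mem_zpowers z⟩).trans
    (monoidHomOfForallMemZpowers_apply_gen _ _))

/-- A monomial representation in which a central subgroup acts by a given character. -/
theorem exists_monomial {Γ : Type u} [Group Γ] [Finite Γ] (N : Subgroup Γ)
    (hN : N ≤ Subgroup.center Γ) (c : N →* ℂˣ) :
    ∃ (n : ℕ) (ρ : Γ →* GL (Fin n) ℂ), n ≠ 0 ∧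
      ∀ x : N, ρ x = Matrix.GeneralLinearGroup.scalar (Fin n) (c x) := by
  classical
  let V : Submodule ℂ (Γ → ℂ) :=
    { carrier := {φ | ∀ (a : N) (x : Γ), φ (a.1 * x) = (c a : ℂ) * φ x}
      add_mem' := fun {φ ψ} hφ hψ a x => by
        simp only [Pi.add_apply, hφ a x, hψ a x, mul_add]
      zero_mem' := fun a x => by simp
      smul_mem' := fun k φ hφ a x => by
        simp only [Pi.smul_apply, hφ a x, smul_eq_mul]; ring }
  let r : Γ →* Module.End ℂ V :=
    { toFun := fun g =>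
        { toFun := fun φ => ⟨fun x => φ.1 (x * g), fun a x => by
            show φ.1 (a.1 * x * g) = _
            rw [mul_assoc]; exact φ.2 a (x * g)⟩
          map_add' := fun _ _ => rfl
          map_smul' := fun _ _ => rfl }
      map_one' := by ext φ x; simp
      map_mul' := fun g h => by ext φ x; simp [mul_assoc] }
  have hr : ∀ (a : N) (φ : V), r a φ = (c a : ℂ) • φ := fun a φ => by
    refine Subtype.ext (funext fun x => ?_)
    show φ.1 (x * a.1) = (c a : ℂ) * φ.1 x
    rw [mem_center_iff.1 (hN a.2) x, φ.2 a x]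
  let φ₀ : V := ⟨fun x => if h : x ∈ N then (c ⟨x, h⟩ : ℂ) else 0, fun a x => by
    by_cases h : x ∈ N
    · have h' : a.1 * x ∈ N := N.mul_mem a.2 h
      simp only [h, h', dite_true]
      rw [← Units.val_mul, ← map_mul]
      rfl
    · have h' : a.1 * x ∉ N := fun h' => h (by simpa using N.mul_mem (N.inv_mem a.2) h')
      simp only [h, h', dite_false, mul_zero]⟩
  have hne : φ₀ ≠ 0 := fun h => by
    have h1 := congrFun (congrArg Subtype.val h) 1
    simp only [φ₀, N.one_mem, dite_true] at h1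
    exact Units.ne_zero _ h1
  haveI : Nontrivial V := ⟨φ₀, 0, hne⟩
  let b := Module.finBasis ℂ V
  let n := Module.finrank ℂ V
  let ρ : Γ →* GL (Fin n) ℂ :=
    (Units.map (LinearMap.toMatrixAlgEquiv b).toRingEquiv.toMonoidHom).comp r.toHomUnits
  refine ⟨n, ρ, Module.finrank_pos.ne', fun a => Units.ext ?_⟩
  show LinearMap.toMatrixAlgEquiv b (r a) = Matrix.scalar (Fin n) (c a : ℂ)
  have : r a = algebraMap ℂ (Module.End ℂ V) (c a : ℂ) := LinearMap.ext (hr a)
  rw [this, AlgEquiv.commutes]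
  rfl

/-- A central element of the derived group has order squared at most the index of any central
subgroup containing it. -/
theorem orderOf_sq_le_index {Γ : Type u} [Group Γ] [Finite Γ] (N : Subgroup Γ)
    (hN : N ≤ Subgroup.center Γ) (z : N) (hz : (z : Γ) ∈ commutator Γ) :
    orderOf z ^ 2 ≤ N.index := by
  classical
  obtain ⟨c, hc⟩ := exists_character N hN z
  obtain ⟨n, ρ, hn, hρ⟩ := exists_monomial N hN c
  haveI : NeZero n := ⟨hn⟩
  let F : MonoidAlgebra ℂ Γ →ₐ[ℂ] Matrix (Fin n) (Fin n) ℂ :=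
    MonoidAlgebra.lift ℂ (Matrix (Fin n) (Fin n) ℂ) Γ ((Units.coeHom _).comp ρ)
  haveI : NeZero (Nat.card Γ : ℂ) := ⟨Nat.cast_ne_zero.2 Nat.card_pos.ne'⟩
  haveI : IsSemisimpleRing F.range :=
    RingHom.isSemisimpleRing_of_surjective F.rangeRestrict.toRingHom F.rangeRestrict_surjective
  -- the range is spanned by the images of a transversal
  let img : Γ ⧸ N → F.range := fun q => F.rangeRestrict (MonoidAlgebra.of ℂ Γ q.out)
  have hspan : Submodule.span ℂ (Set.range img) = ⊤ := by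
    refine top_le_iff.1 fun y _ => ?_
    obtain ⟨a, rfl⟩ := F.rangeRestrict_surjective y
    induction a using MonoidAlgebra.induction_on with
    | of x =>
      have hx : ((QuotientGroup.mk x : Γ ⧸ N).out)⁻¹ * x ∈ N :=
        QuotientGroup.eq.1 (QuotientGroup.out_eq' _)
      have : F.rangeRestrict (MonoidAlgebra.of ℂ Γ x) =
          (c ⟨_, hx⟩ : ℂ) • img (QuotientGroup.mk x) := by
        apply Subtype.ext
        show F (MonoidAlgebra.of ℂ Γ x) = (c ⟨_, hx⟩ : ℂ) • F (MonoidAlgebra.of ℂ Γ _)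
        simp only [F, MonoidAlgebra.lift_of, MonoidHom.comp_apply, Units.coeHom_apply]
        conv_lhs => rw [← mul_inv_cancel_left (QuotientGroup.mk x : Γ ⧸ N).out x, map_mul,
          hρ ⟨_, hx⟩, Units.val_mul]
        show _ * Matrix.scalar (Fin n) _ = _
        ext a b
        simp [Matrix.scalar_apply, Matrix.mul_diagonal, mul_comm]
      rw [this]
      exact Submodule.smul_mem _ _ (Submodule.subset_span ⟨_, rfl⟩)
    | add a b ha hb => rw [map_add]; exact Submodule.add_mem _ (ha trivial) (hb trivial)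
    | smul k a ha => rw [map_smul]; exact Submodule.smul_mem _ _ (ha trivial)
  haveI : Fintype (Γ ⧸ N) := Fintype.ofFinite _
  have hdim : Module.finrank ℂ F.range ≤ N.index := by
    have := finrank_range_le_card (R := ℂ) img
    rw [Set.finrank, hspan, finrank_top, ← Nat.card_eq_fintype_card] at this
    exact this
  obtain ⟨k, d, hd, ⟨e⟩⟩ := IsSemisimpleRing.exists_algEquiv_pi_matrix_of_isAlgClosed ℂ F.range
  haveI : Nontrivial F.range := ⟨1, 0, fun h => one_ne_zero (congrArg Subtype.val h :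
    (1 : Matrix (Fin n) (Fin n) ℂ) = 0)⟩
  rcases Nat.eq_zero_or_pos k with rfl | hk
  · exact absurd (e.injective (funext fun i => Fin.elim0 i) : (1 : F.range) = 0) one_ne_zero
  let i : Fin k := ⟨0, hk⟩
  let P : F.range →ₐ[ℂ] Matrix (Fin (d i)) (Fin (d i)) ℂ :=
    (Pi.evalAlgHom ℂ (fun j => Matrix (Fin (d j)) (Fin (d j)) ℂ) i).comp e.toAlgHom
  have hP : Function.Surjective P := fun m => ⟨e.symm (Pi.single i m), by simp [P]⟩
  have hd2 : d i ^ 2 ≤ N.index := by
    have := LinearMap.finrank_range_le P.toLinearMap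
    rw [LinearMap.range_eq_top.2 hP, finrank_top, Module.finrank_matrix] at this
    simp only [Fintype.card_fin, Module.finrank_self, mul_one] at this
    rw [pow_two]
    exact this.trans hdim
  let δ : Γ →* ℂ := (Matrix.detMonoidHom).comp
    (P.toMonoidHom.comp (F.rangeRestrict.toMonoidHom.comp (MonoidAlgebra.of ℂ Γ)))
  have h1 : δ.toHomUnits z.1 = 1 :=
    MonoidHom.mem_ker.1 (Abelianization.commutator_subset_ker δ.toHomUnits hz)
  have h2 : δ z.1 = (c z : ℂ) ^ d i := by
    have : F.rangeRestrict (MonoidAlgebra.of ℂ Γ z.1) = algebraMap ℂ F.range (c z : ℂ) := by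
      apply Subtype.ext
      show F (MonoidAlgebra.of ℂ Γ z.1) = _
      simp only [F, MonoidAlgebra.lift_of, MonoidHom.comp_apply, Units.coeHom_apply, hρ z]
      rfl
    show Matrix.det (P (F.rangeRestrict (MonoidAlgebra.of ℂ Γ z.1))) = _
    rw [this, AlgHom.commutes, Algebra.algebraMap_eq_smul_one, Matrix.det_smul, Matrix.det_one,
      mul_one, Fintype.card_fin]
  have h3 : c z ^ d i = 1 := Units.ext (by
    rw [Units.val_pow_eq_pow_val, ← h2, ← MonoidHom.coe_toHomUnits, h1])
  have h4 : orderOf z ≤ d i :=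
    Nat.le_of_dvd (Nat.pos_of_ne_zero (hd i).out) (hc ▸ orderOf_dvd_of_pow_eq_one h3)
  exact (Nat.pow_le_pow_left h4 2).trans hd2

/-- For a finite stem extension, the square of the exponent of the kernel divides the order of the
image. -/
theorem exponent_sq_dvd {Γ : Type u} {Q : Type v} [Group Γ] [Finite Γ] [Group Q] [Finite Q]
    (σ : Γ →* Q) (hσ : IsStemExtension σ) : Monoid.exponent σ.ker ^ 2 ∣ Nat.card Q := by
  have he : Monoid.exponent σ.ker ≠ 0 := Monoid.exponent_ne_zero_of_finite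
  rw [← Nat.factorization_le_iff_dvd (pow_ne_zero 2 he) Nat.card_pos.ne',
    Nat.factorization_pow]
  intro p
  simp only [Finsupp.smul_apply, smul_eq_mul]
  by_cases hp : p.Prime
  swap
  · simp [Nat.factorization_eq_zero_of_not_prime _ hp]
  haveI : Fact p.Prime := ⟨hp⟩
  set k := (Monoid.exponent σ.ker).factorization p with hk
  rcases Nat.eq_zero_or_pos k with hk0 | hk0
  · simp [hk0]
  letI : CommGroup σ.ker :=
    { σ.ker.toGroup with
      mul_comm := fun a b => Subtype.ext (mem_center_iff.1 (hσ.2.1 b.2) a.1) }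
  obtain ⟨z, hz⟩ : ∃ z : σ.ker, orderOf z = p ^ k := by
    obtain ⟨g, hg⟩ := Monoid.exists_orderOf_eq_exponent (G := σ.ker) Monoid.ExponentExists.of_finite
    refine ⟨g ^ (orderOf g / p ^ k), ?_⟩
    rw [orderOf_pow_orderOf_div (orderOf_pos g).ne' (hg ▸ Nat.ordProj_dvd _ _)]
  obtain ⟨P⟩ : Nonempty (Sylow p Γ) := inferInstance
  have hzP : (z : Γ) ∈ P := central_pElement_mem_sylow P z.1 (hσ.2.1 z.2) (k := k) (by
    rw [← hz, ← SubmonoidClass.coe_pow, pow_orderOf_eq_one]; rfl)
  let f := σ.subgroupMap (P : Subgroup Γ)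
  have hf : IsStemExtension f := isStemExtension_sylow σ hσ P
  have hzf : (⟨z.1, hzP⟩ : (P : Subgroup Γ)) ∈ f.ker := Subtype.ext z.2
  have h1 := orderOf_sq_le_index f.ker hf.2.1 ⟨_, hzf⟩ (hf.2.2 hzf)
  rw [Subgroup.orderOf_mk, Subgroup.orderOf_mk, Subgroup.orderOf_coe, hz, Subgroup.index_ker,
    MonoidHom.range_eq_top.2 hf.1, Subgroup.card_top] at h1
  let S := P.mapSurjective hσ.1
  obtain ⟨m, hm⟩ := IsPGroup.iff_card.1 S.isPGroup'
  have hm' : Nat.card ((P : Subgroup Γ).map σ) = p ^ m := hm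
  rw [hm', ← pow_mul] at h1
  have h2 : p ^ (k * 2) ∣ Nat.card Q :=
    ((Nat.pow_dvd_pow p ((Nat.pow_le_pow_iff_right hp.one_lt).1 h1)).trans
      (hm' ▸ Subgroup.card_subgroup_dvd_card _))
  rw [mul_comm 2]
  exact (hp.pow_dvd_iff_le_factorization Nat.card_pos.ne').1 h2

/-- The centre of `GL n ℂ` has all roots. -/
theorem center_GL_roots (n m : ℕ) (hm : m ≠ 0) :
    Function.Surjective fun d : Subgroup.center (GL (Fin n) ℂ) => d ^ m := by
  rintro ⟨x, hx⟩
  rw [Matrix.GeneralLinearGroup.center_eq_range_scalar] at hx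
  obtain ⟨a, rfl⟩ := hx
  obtain ⟨b, hb⟩ := units_complex_roots m hm a
  refine ⟨⟨Matrix.GeneralLinearGroup.scalar (Fin n) b, ?_⟩, Subtype.ext ?_⟩
  · rw [Matrix.GeneralLinearGroup.center_eq_range_scalar]; exact ⟨b, rfl⟩
  · show Matrix.GeneralLinearGroup.scalar (Fin n) b ^ m = _
    rw [← map_pow]; exact congrArg _ hb

/-- Projective representations lift to a stem extension carrying the whole multiplier. -/
theorem exists_linear_lift {Q : Type u} [Group Q] {Γ : Type v} [Group Γ] {σ : Γ →* Q}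
    (hσ : IsStemExtension σ) {f : FreeCE Q →* Γ} (hf : σ.comp f = ceHom Q)
    (hd : f.ker ⊓ schurM Q = ⊥) (n : ℕ)
    (γ : Q →* (GL (Fin n) ℂ ⧸ Subgroup.center (GL (Fin n) ℂ))) :
    ∃ ρ : Γ →* GL (Fin n) ℂ,
      (QuotientGroup.mk' (Subgroup.center (GL (Fin n) ℂ))).comp ρ = γ.comp σ := by
  let Z := Subgroup.center (GL (Fin n) ℂ)
  let π := QuotientGroup.mk' Z
  -- pull back to `Q`
  let P := fibredProduct γ π
  let p₁ : P →* Q := (MonoidHom.fst _ _).comp P.subtype
  let p₂ : P →* GL (Fin n) ℂ := (MonoidHom.snd _ _).comp P.subtype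
  have hs : Function.Surjective p₁ := fun q => by
    obtain ⟨x, hx⟩ := QuotientGroup.mk'_surjective Z (γ q)
    exact ⟨⟨(q, x), hx.symm⟩, rfl⟩
  have hc : p₁.ker ≤ Subgroup.center P := by
    intro y hy
    rw [mem_center_iff]
    intro z
    have hy1 : p₁ y = 1 := hy
    have hy2 : p₂ y ∈ Z := by
      rw [← QuotientGroup.eq_one_iff]
      have := y.2
      show π (p₂ y) = 1
      rw [show π (p₂ y) = γ (p₁ y) from this.symm, hy1, map_one]
    refine Subtype.ext (Prod.ext ?_ ?_)
    · show p₁ (z * y) = p₁ (y * z)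
      rw [map_mul, map_mul, hy1, one_mul, mul_one]
    · show p₂ (z * y) = p₂ (y * z)
      rw [map_mul, map_mul]; exact mem_center_iff.1 hy2 _
  obtain ⟨h₀, hh₀⟩ := exists_lift Q p₁ hs hc
  let h : FreeCE Q →* GL (Fin n) ℂ := p₂.comp h₀
  have hh : π.comp h = γ.comp (ceHom Q) := by
    refine MonoidHom.ext fun x => ?_
    show π (p₂ (h₀ x)) = γ (ceHom Q x)
    rw [← hh₀]
    exact (h₀ x).2.symm
  have hK : f.ker ≤ (ceHom Q).ker := fun x hx => by
    rw [MonoidHom.mem_ker, ← hf, MonoidHom.comp_apply, MonoidHom.mem_ker.1 hx, map_one]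
  have hKd : f.ker ⊓ commutator (FreeCE Q) = ⊥ := by
    rw [eq_bot_iff, ← hd]
    exact fun x hx => ⟨hx.1, hK hx.1, hx.2⟩
  let φ : f.ker →* Z := (h.domRestrict f.ker).codRestrict Z fun x => by
    rw [← QuotientGroup.eq_one_iff]
    show π (h x.1) = 1
    rw [← MonoidHom.comp_apply, hh, MonoidHom.comp_apply, MonoidHom.mem_ker.1 (hK x.2), map_one]
  letI : CommGroup Z :=
    { Z.toGroup with
      mul_comm := fun a b => Subtype.ext (mem_center_iff.1 b.2 a.1) }
  obtain ⟨χ, hχ⟩ := exists_extend_of_roots f.ker hKd (center_GL_roots n) φ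
  let h' : FreeCE Q →* GL (Fin n) ℂ :=
    { toFun := fun x => h x * ((χ x : GL (Fin n) ℂ))⁻¹
      map_one' := by simp
      map_mul' := fun a b => by
        have hca : ((χ a : GL (Fin n) ℂ))⁻¹ ∈ Z := Z.inv_mem (χ a).2
        rw [map_mul, map_mul, Subgroup.coe_mul,
          show ((χ a : GL (Fin n) ℂ) * (χ b : GL (Fin n) ℂ))⁻¹ =
            ((χ a : GL (Fin n) ℂ))⁻¹ * ((χ b : GL (Fin n) ℂ))⁻¹ from by
              rw [mul_inv_rev]; exact mem_center_iff.1 hca _]
        rw [mul_assoc (h a), ← mul_assoc (h b), mem_center_iff.1 hca (h b)]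
        simp only [mul_assoc] }
  have hs' := (lift_surjective hσ hf).1
  have hker : f.ker ≤ h'.ker := fun x hx => by
    show h x * ((χ x : GL (Fin n) ℂ))⁻¹ = 1
    rw [show (χ x : GL (Fin n) ℂ) = h x from congrArg Subtype.val (hχ ⟨x, hx⟩), mul_inv_cancel]
  refine ⟨f.liftOfSurjective hs' ⟨h', hker⟩, ?_⟩
  ext g
  obtain ⟨x, rfl⟩ := hs' g
  rw [MonoidHom.comp_apply, MonoidHom.liftOfRightInverse_comp_apply, MonoidHom.comp_apply,
    ← MonoidHom.comp_apply σ, hf, ← MonoidHom.comp_apply γ, ← hh]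
  show π (h x * ((χ x : GL (Fin n) ℂ))⁻¹) = π (h x)
  rw [map_mul, (QuotientGroup.eq_one_iff _).2 (Z.inv_mem (χ x).2) |>
    (fun e => show π ((χ x : GL (Fin n) ℂ))⁻¹ = 1 from e), mul_one]

/-- If all projective representations lift, the lift from `F/[R,F]` is injective on the
multiplier. -/
theorem disjoint_ker_of_liftable {Q : Type u} [Group Q] [Finite Q] {Γ : Type v} [Group Γ]
    {σ : Γ →* Q}
    (hlift : ∀ (n : ℕ) (γ : Q →* (GL (Fin n) ℂ ⧸ Subgroup.center (GL (Fin n) ℂ))),
      ∃ ρ : Γ →* GL (Fin n) ℂ,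
        (QuotientGroup.mk' (Subgroup.center (GL (Fin n) ℂ))).comp ρ = γ.comp σ)
    {f : FreeCE Q →* Γ} (hf : σ.comp f = ceHom Q) : f.ker ⊓ schurM Q = ⊥ := by
  rw [eq_bot_iff]
  intro m hm
  by_contra hm1
  obtain ⟨Γ₀, _, _, σ₀, hσ₀, ⟨e₀⟩⟩ := exists_cover Q
  obtain ⟨g, hg⟩ := exists_lift Q σ₀ hσ₀.1 hσ₀.2.1
  have hmap := (lift_surjective hσ₀ hg).2
  let r : schurM Q →* σ₀.ker := (g.domRestrict (schurM Q)).codRestrict σ₀.ker
    (fun x => by rw [← hmap]; exact ⟨x, x.2, rfl⟩)
  have hr : Function.Surjective r := by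
    rintro ⟨z, hz⟩
    obtain ⟨x, hx, hxz⟩ := hmap.symm ▸ hz
    exact ⟨⟨x, hx⟩, Subtype.ext hxz⟩
  have hri : Function.Injective r :=
    ((Nat.bijective_iff_surjective_and_card r).2 ⟨hr, (Nat.card_congr e₀.toEquiv).symm⟩).1
  let z : σ₀.ker := r ⟨m, hm.2⟩
  have hz : z ≠ 1 := fun h => hm1 (Subgroup.mem_bot.2
    (congrArg Subtype.val (hri (h.trans (map_one r).symm))))
  obtain ⟨c, hc⟩ := exists_character σ₀.ker hσ₀.2.1 z
  obtain ⟨n, ρ₀, hn, hρ₀⟩ := exists_monomial σ₀.ker hσ₀.2.1 c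
  haveI : NeZero n := ⟨hn⟩
  let Z := Subgroup.center (GL (Fin n) ℂ)
  let π := QuotientGroup.mk' Z
  have hscal : σ₀.ker ≤ (π.comp ρ₀).ker := fun x hx => by
    show π (ρ₀ x) = 1
    refine (QuotientGroup.eq_one_iff _).2 ?_
    rw [show ρ₀ x = _ from hρ₀ ⟨x, hx⟩]
    show _ ∈ Subgroup.center _
    rw [Matrix.GeneralLinearGroup.center_eq_range_scalar]
    exact ⟨_, rfl⟩
  obtain ⟨ρ, hρ⟩ := hlift n (σ₀.liftOfSurjective hσ₀.1 ⟨π.comp ρ₀, hscal⟩)
  -- the discrepancy is a character of `FreeCE Q`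
  have hdiff : ∀ x, (ρ₀ (g x))⁻¹ * ρ (f x) ∈ Z := fun x => by
    rw [← QuotientGroup.eq_one_iff]
    show π ((ρ₀ (g x))⁻¹ * ρ (f x)) = 1
    have h1 := DFunLike.congr_fun hρ (f x)
    simp only [MonoidHom.comp_apply] at h1
    rw [show σ (f x) = σ₀ (g x) from by
      rw [← MonoidHom.comp_apply σ, hf, ← MonoidHom.comp_apply σ₀, hg],
      MonoidHom.liftOfRightInverse_comp_apply] at h1
    rw [map_mul, map_inv, h1]
    exact inv_mul_cancel _
  let θ : FreeCE Q →* Z :=
    { toFun := fun x => ⟨_, hdiff x⟩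
      map_one' := Subtype.ext (by simp)
      map_mul' := fun a b => Subtype.ext (by
        show (ρ₀ (g (a * b)))⁻¹ * ρ (f (a * b)) =
          (ρ₀ (g a))⁻¹ * ρ (f a) * ((ρ₀ (g b))⁻¹ * ρ (f b))
        have := mem_center_iff.1 (hdiff a) (ρ₀ (g b))⁻¹
        simp only [map_mul, mul_inv_rev]
        calc (ρ₀ (g b))⁻¹ * (ρ₀ (g a))⁻¹ * (ρ (f a) * ρ (f b))
            = (ρ₀ (g b))⁻¹ * ((ρ₀ (g a))⁻¹ * ρ (f a)) * ρ (f b) := by simp only [mul_assoc]
          _ = _ := by rw [this]; simp only [mul_assoc]) }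
  letI : CommGroup Z :=
    { Z.toGroup with
      mul_comm := fun a b => Subtype.ext (mem_center_iff.1 b.2 a.1) }
  have h1 : θ m = 1 := MonoidHom.mem_ker.1 (Abelianization.commutator_subset_ker θ hm.2.2)
  have h2 : (ρ₀ (g m))⁻¹ * ρ (f m) = 1 := congrArg Subtype.val h1
  rw [MonoidHom.mem_ker.1 hm.1, map_one, mul_one, inv_eq_one] at h2
  have h3 : Matrix.GeneralLinearGroup.scalar (Fin n) (c z) = 1 := (hρ₀ z).symm.trans h2
  have h4 : c z = 1 := by
    refine Units.ext ?_
    have h5 : Matrix.scalar (Fin n) (c z : ℂ) = Matrix.scalar (Fin n) 1 := by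
      rw [map_one]; exact congrArg Units.val h3
    exact Matrix.scalar_inj.1 h5
  rw [h4, orderOf_one] at hc
  exact hz (orderOf_eq_one_iff.1 hc.symm)

end Cfsg.Agent.Lib.Multiplier
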